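import Groth.Agent.Lib.Ref1.Tensor
import Groth.Agent.Lib.Goodman.Degree
import Groth.Agent.Lib.Snapper.Intersection
import Groth.Agent.Lib.K0Sub.Basic

/-!
# Stalkwise bijective morphisms, tensor products and ideal modules
-/

set_option autoImplicit false
set_option linter.all false
set_option backward.isDefEq.respectTransparency false

universe u

open CategoryTheory CategoryTheory.Limits AlgebraicGeometry TopologicalSpace

open scoped TensorProduct

noncomputable section

namespace GrothLib.RefK12

open GrothLib.QCoh (stalkLin)

variable {X : Scheme.{u}}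

theorem bijective_stalkLin_comp {A B C : X.Modules} {f : A ⟶ B} {g : B ⟶ C} {x : X}
    (hf : Function.Bijective (stalkLin f x)) (hg : Function.Bijective (stalkLin g x)) :
    Function.Bijective (stalkLin (f ≫ g) x) := by
  have h : ⇑(stalkLin (f ≫ g) x) = stalkLin g x ∘ stalkLin f x := by
    funext v
    exact QCoh.stalkLin_comp f g x v
  rw [h]
  exact hg.comp hf

theorem bijective_stalkLin_iso {A B : X.Modules} (e : A ≅ B) (x : X) :
    Function.Bijective (stalkLin e.hom x) := by
  have h := Ref1.stalkMapₗ_bijective e x
  have he : ⇑(stalkLin e.hom x) = ⇑(RefHull.stalkMapₗ e.hom x) := by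
    funext v
    obtain ⟨U, hU, m, rfl⟩ := TopCat.Presheaf.exists_germ_eq A.presheaf v
    rw [RefHull.stalkMapₗ_germ, QCoh.stalkLin_germ]
  rwa [he]

theorem isZero_of_support_eq_empty {F : X.Modules} (h : CohB1.support F = ∅) : IsZero F := by
  rw [IsZero.iff_id_eq_zero]
  refine Scheme.Modules.hom_ext _ _ fun U => AddCommGrpCat.ext fun s => ?_
  have hs : (show Γ(F, U) from s) = 0 := QCoh.section_eq_zero_of_germ F _ fun x hx =>
    @Subsingleton.elim _ (QCoh.stalk_subsingleton_of_notMem (Set.eq_empty_iff_forall_notMem.1 h x)) _ _
  simpa using hs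

/-- Tensoring keeps a stalkwise bijection. -/
theorem bijective_tensor_map (F : X.Modules) {G G' : X.Modules} (φ : G ⟶ G') {x : X}
    (h : Function.Bijective (stalkLin φ x)) :
    Function.Bijective (stalkLin (((DCoh.tensorBi (X := X)).obj F).map φ) x) := by
  let e := LinearEquiv.ofBijective _ h
  let E := (Ref1.tensorStalk F G x).trans
    ((TensorProduct.congr (LinearEquiv.refl _ (F.presheaf.stalk x)) e).trans (Ref1.tensorStalk F G' x).symm)
  have key : ∀ v, stalkLin (((DCoh.tensorBi (X := X)).obj F).map φ) x v = E v := by
    intro v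
    obtain ⟨w, rfl⟩ := (Ref1.tensorStalk F G x).symm.surjective v
    induction w using TensorProduct.induction_on with
    | zero => simp
    | tmul a b =>
      have h0 := Goodman.stalkLin_tensor_tmul F φ x a b
      refine (show _ = _ from h0).trans ?_
      show _ = E ((Ref1.tensorStalk F G x).symm (a ⊗ₜ b))
      simp [E, e]
      rfl
    | add p q hp hq => simp only [map_add, hp, hq]
  rw [funext key]
  exact E.bijective

theorem bijective_tensor_map_right (N : X.Modules) {F F' : X.Modules} (φ : F ⟶ F') {x : X}
    (h : Function.Bijective (stalkLin φ x)) :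
    Function.Bijective (stalkLin ((Euler.tF N).map φ) x) := by
  let β := (OX.tensorBraiding (X := X)).app N
  have e : (Euler.tF N).map φ = β.hom.app F ≫ ((DCoh.tensorBi (X := X)).obj N).map φ ≫ β.inv.app F' := by
    rw [β.inv.naturality φ, ← Category.assoc, ← NatTrans.comp_app, β.hom_inv_id, NatTrans.id_app, Category.id_comp]
  rw [e]
  exact bijective_stalkLin_comp (bijective_stalkLin_iso (β.app F) x)
    (bijective_stalkLin_comp (bijective_tensor_map N φ h) (bijective_stalkLin_iso (β.app F').symm x))

/-- The inclusion of the ideal module is bijective off the subscheme. -/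
theorem bijective_idealModι {D : X.IdealSheafData} {x : X} (hx : x ∉ (D.support : Set X)) :
    Function.Bijective (stalkLin (ClSub.idealModι D) x) := by
  haveI : Mono (ClSub.idealModι D) := inferInstanceAs (Mono (kernel.ι (ClSub.toSubscheme D)))
  haveI := Euler.epi_toSubscheme D
  let S := ShortComplex.mk (ClSub.idealModι D) (ClSub.toSubscheme D) (kernel.condition _)
  have hS : S.ShortExact := K0Sub.shortExact_kernel (ClSub.toSubscheme D)
  refine ⟨QCoh.stalkLin_injective _ x, fun v => ?_⟩
  have he := (OX.exact_iff S).1 hS.exact x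
  rw [ShortComplex.moduleCat_exact_iff] at he
  haveI : Subsingleton ((ClSub.quotMod D).presheaf.stalk x) :=
    QCoh.stalk_subsingleton_of_notMem fun h => hx (Snapper.support_quotMod D h)
  obtain ⟨a, ha⟩ := he v (Subsingleton.elim (α := (ClSub.quotMod D).presheaf.stalk x) _ _)
  exact ⟨a, ha⟩

end GrothLib.RefK12
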