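import Groth.Agent.Lib.RefK12.Stalk
import Groth.Agent.Lib.DivDiff10.Basic
import Groth.Agent.Lib.FGAInt26.Basic
import Groth.Agent.Lib.Snapper.Polynomial
import Groth.Agent.Lib.CycBasic.DimFun
import Groth.Agent.Lib.K0Sub.Swindle
import Mathlib.Algebra.MonoidAlgebra.Basic
import Groth.Prelude.Def_ChowK

/-!
# The dimension filtration of `K₀` of coherent modules and the twisting operators
-/

set_option autoImplicit false
set_option linter.all false
set_option backward.isDefEq.respectTransparency false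
set_option maxHeartbeats 400000

universe u

open CategoryTheory CategoryTheory.Limits AlgebraicGeometry TopologicalSpace

noncomputable section

namespace GrothLib.RefK12

open GrothLib.Euler (tF)
open GrothLib.Cube (Pic clsMod HasCls hasCls_clsMod hasCls_structureModule)
open GrothLib.HodgeIndex (rep isInv_rep cls_rep)
open GrothLib.Snapper (tw tw_iso)
open GrothLib.QCoh (stalkLin)

variable {X : Scheme.{u}}

/-- `K₀` of coherent modules of dimension at most `n`. -/
abbrev K (δ : X → ℤ) (n : ℤ) : Type (u + 1) := KZero.K0sub (Cyc.CohLe δ n)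

/-- The class of a module. -/
abbrev cl (δ : X → ℤ) (n : ℤ) (F : X.Modules) : K δ n := KZero.clSub (Cyc.CohLe δ n) F

/-- The dimension filtration. -/
abbrev Kle (δ : X → ℤ) (n m : ℤ) : AddSubgroup (K δ n) :=
  AddSubgroup.closure {c | ∃ F : X.Modules, Cyc.CohLe δ m F ∧ c = cl δ n F}

theorem mem_support_iff {F : X.Modules} {x : X} :
    x ∈ CohB1.support F ↔ Nontrivial (F.presheaf.stalk x) :=
  not_subsingleton_iff_nontrivial

theorem cohLe_of_support {δ : X → ℤ} {m : ℤ} {F : X.Modules} (hF : Coh.IsCoh F)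
    (h : ∀ x ∈ CohB1.support F, δ x ≤ m) : Cyc.CohLe δ m F :=
  ⟨hF, fun x hx => h x (mem_support_iff.2 hx)⟩

theorem delta_le_of_cohLe {δ : X → ℤ} {m : ℤ} {F : X.Modules} (hF : Cyc.CohLe δ m F) {x : X}
    (hx : x ∈ CohB1.support F) : δ x ≤ m :=
  hF.2 x (mem_support_iff.1 hx)

theorem cohLe_of_le {δ : X → ℤ} {n : ℤ} (hn : ∀ x : X, δ x ≤ n) {F : X.Modules} (hF : Coh.IsCoh F) :
    Cyc.CohLe δ n F :=
  ⟨hF, fun x _ => hn x⟩

variable {δ : X → ℤ} {n : ℤ}

theorem toK0CohQuot_eq_iff {m : ℤ} {a b : K δ n} :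
    (QuotientAddGroup.mk a : Cyc.K0CohQuot δ n m) = QuotientAddGroup.mk b ↔ a - b ∈ Kle δ n m := by
  rw [QuotientAddGroup.eq_iff_sub_mem]

theorem cl_mem_Kle {m : ℤ} {F : X.Modules} (hF : Coh.IsCoh F) (h : ∀ x ∈ CohB1.support F, δ x ≤ m) :
    cl δ n F ∈ Kle δ n m :=
  AddSubgroup.subset_closure ⟨F, cohLe_of_support hF h, rfl⟩

theorem Kle_mono {m m' : ℤ} (h : m ≤ m') : Kle δ n m ≤ Kle δ n m' :=
  AddSubgroup.closure_mono fun _ ⟨F, hF, hc⟩ => ⟨F, ⟨hF.1, fun x hx => (hF.2 x hx).trans h⟩, hc⟩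

theorem mem_Kle_top (hn : ∀ x : X, δ x ≤ n) (c : K δ n) : c ∈ Kle δ n n := by
  have h : (QuotientAddGroup.mk' (Kle δ n n)) = 0 := K0Sub.hom_ext fun F hF =>
    (QuotientAddGroup.eq_zero_iff _).2 (cl_mem_Kle hF.1 fun x _ => hn x)
  exact (QuotientAddGroup.eq_zero_iff c).1 (DFunLike.congr_fun h c)

/-- Nothing has negative dimension. -/
theorem Kle_eq_bot {m : ℤ} (hm : ∀ x : X, m < δ x) : Kle δ n m = ⊥ := by
  rw [AddSubgroup.closure_eq_bot_iff]
  rintro _ ⟨F, hF, rfl⟩
  refine K0Sub.clSub_isZero (isZero_of_support_eq_empty ?_)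
  exact Set.eq_empty_iff_forall_notMem.2 fun x hx => (hm x).not_ge (delta_le_of_cohLe hF hx)

theorem Kle_induction {m : ℤ} (P : K δ n → Prop) (hcl : ∀ F, Cyc.CohLe δ m F → P (cl δ n F)) (h0 : P 0)
    (hsub : ∀ a b, P a → P b → P (a - b)) {c : K δ n} (hc : c ∈ Kle δ n m) : P c := by
  induction hc using AddSubgroup.closure_induction with
  | mem x hx => obtain ⟨F, hF, rfl⟩ := hx; exact hcl F hF
  | zero => exact h0
  | add a b _ _ ha hb => simpa using hsub a (0 - b) ha (hsub 0 b h0 hb)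
  | neg a _ ha => simpa using hsub 0 a h0 ha

theorem cl_iso (hn : ∀ x : X, δ x ≤ n) [IsLocallyNoetherian X] {F G : X.Modules} (e : F ≅ G) (hF : Coh.IsCoh F) :
    cl δ n F = cl δ n G :=
  K0Sub.clSub_iso' (fun _ hZ => cohLe_of_le hn (Euler.isCoh_of_isZero hZ)) e (cohLe_of_le hn hF)
    (cohLe_of_le hn (QCoh.isCoh_of_iso e hF))

/-- A morphism bijective at the points of dimension above `m` changes classes by dimension at most `m`. -/
theorem sub_mem_of_map [IsNoetherian X] (hn : ∀ x : X, δ x ≤ n) {m : ℤ} {A B : X.Modules}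
    (hA : Coh.IsCoh A) (hB : Coh.IsCoh B) (f : A ⟶ B)
    (hf : ∀ x ∈ CohB1.support A ∪ CohB1.support B, m < δ x → Function.Bijective (stalkLin f x)) :
    cl δ n A - cl δ n B ∈ Kle δ n m := by
  rw [← toK0CohQuot_eq_iff]
  refine Snapper.eq_of_kernel_cokernel (V := Cyc.K0CohQuot δ n m) (fun F => QuotientAddGroup.mk (cl δ n F))
    (fun T hT h₁ h₂ h₃ => ?_) hA hB f ?_ ?_
  · exact (congrArg QuotientAddGroup.mk (K0Sub.clSub_add (P := Cyc.CohLe δ n) hT (cohLe_of_le hn h₁)
      (cohLe_of_le hn h₂) (cohLe_of_le hn h₃))).trans (QuotientAddGroup.mk_add _ _ _)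
  · refine (QuotientAddGroup.eq_zero_iff _).2 (cl_mem_Kle (QCoh.isCoh_kernel f hA hB) fun x hx => ?_)
    by_contra h
    exact QCoh.notMem_support_kernel_of_injective f
      (hf x (Or.inl (QCoh.support_subset_of_mono (kernel.ι f) hx)) (not_le.1 h)).1 hx
  · refine (QuotientAddGroup.eq_zero_iff _).2 (cl_mem_Kle (QCoh.isCoh_cokernel f hA hB) fun x hx => ?_)
    by_contra h
    exact QCoh.notMem_support_cokernel_of_surjective f
      (hf x (Or.inr (QCoh.support_subset_of_epi (cokernel.π f) hx)) (not_le.1 h)).2 hx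

/-! ### Twists -/

theorem isCoh_tensor [IsLocallyNoetherian X] {F N : X.Modules} (hF : Coh.IsCoh F) (hN : PicF.IsInvertible N) :
    Coh.IsCoh ((tF N).obj F) :=
  Euler.isCoh_tF hF (Euler.isFinLocFree_of_isInvertible hN)

theorem support_tensor_subset {F N : X.Modules} (hN : PicF.IsInvertible N) :
    CohB1.support ((tF N).obj F) ⊆ CohB1.support F :=
  Euler.support_tF_subset (Euler.isFinLocFreeOfRank_one' hN)

/-- The top dimensional points of the support are finitely many. -/
theorem finite_top [IsNoetherian X] (hδ : Cyc.IsDimFun X δ) {m : ℤ} {F : X.Modules} (hF : Coh.IsCoh F)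
    (h : ∀ x ∈ CohB1.support F, δ x ≤ m) : {x ∈ CohB1.support F | δ x = m}.Finite := by
  haveI : NoetherianSpace X.toTopCat := inferInstanceAs (NoetherianSpace X)
  refine Snapper.finite_of_maximal (QCoh.isClosed_support_of_isCoh hF) (fun x hx => hx.1) fun x hx y hy hyx => ?_
  by_contra hne
  have := (hδ y x hyx hne).1
  have := h y hy
  have := hx.2
  omega

/-- Invertible twists do not change the top dimensional part. -/
theorem tensor_sub_mem [IsNoetherian X] (hn : ∀ x : X, δ x ≤ n) (hδ : Cyc.IsDimFun X δ)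
    (hA : ∃ L : X.Modules, CohB1.IsAmple L) {m : ℤ} {F : X.Modules} (hF : Coh.IsCoh F)
    (h : ∀ x ∈ CohB1.support F, δ x ≤ m) {N : X.Modules} (hN : PicF.IsInvertible N) :
    cl δ n ((tF N).obj F) - cl δ n F ∈ Kle δ n (m - 1) := by
  obtain ⟨L, hL⟩ := hA
  obtain ⟨D, D', hD, hD', hED, hED', ⟨e⟩⟩ := DivDiff10.exists_difference hL hN (finite_top hδ hF h)
  have iD := IdealModSec.isInvertible_of_isEffCartier hD
  have iD' := IdealModSec.isInvertible_of_isEffCartier hD'
  let T := (DCoh.tensorBi (X := X))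
  have key : ∀ (G : X.Modules), Coh.IsCoh G → CohB1.support G ⊆ CohB1.support F → ∀ (I : X.IdealSheafData),
      PicF.IsInvertible (ClSub.idealMod I) →
      Disjoint {x ∈ CohB1.support F | δ x = m} (I.support : Set X) →
      cl δ n ((tF (ClSub.idealMod I)).obj G) - cl δ n G ∈ Kle δ n (m - 1) := by
    intro G hG hGF I iI hI
    let f : (tF (ClSub.idealMod I)).obj G ⟶ G := (T.obj G).map (ClSub.idealModι I) ≫ (Euler.tFUnitIso G).hom
    refine sub_mem_of_map hn (isCoh_tensor hG iI) hG f fun x hx hm => ?_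
    have hxF : x ∈ CohB1.support F := hGF (hx.elim (fun h => support_tensor_subset iI h) id)
    have hxD : x ∉ (I.support : Set X) :=
      Set.disjoint_left.1 hI ⟨hxF, le_antisymm (h x hxF) (by omega)⟩
    exact bijective_stalkLin_comp (bijective_tensor_map G _ (bijective_idealModι hxD))
      (bijective_stalkLin_iso (Euler.tFUnitIso G) x)
  have h1 := key F hF subset_rfl D' iD' hED'
  have h2 := key ((tF N).obj F) (isCoh_tensor hF hN) (support_tensor_subset hN) D iD hED
  have he : cl δ n ((tF (ClSub.idealMod D)).obj ((tF N).obj F)) = cl δ n ((tF (ClSub.idealMod D')).obj F) :=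
    cl_iso hn (OX.tensorAssoc F N (ClSub.idealMod D) ≪≫ (T.obj F).mapIso e)
      (isCoh_tensor (isCoh_tensor hF hN) iD)
  rw [he] at h2
  have := (Kle δ n (m - 1)).sub_mem h1 h2
  rwa [sub_sub_sub_cancel_left] at this

/-! ### The twisting operators -/

/-- The standing hypotheses. -/
structure Setting (δ : X → ℤ) (n : ℤ) : Prop where
  noeth : IsNoetherian X
  le : ∀ x : X, δ x ≤ n
  dimFun : Cyc.IsDimFun X δ
  ample : ∃ L : X.Modules, CohB1.IsAmple L

variable (h : Setting δ n)

include h in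
theorem exists_twist (z : Pic X) : ∃ ψ : K δ n →+ K δ n,
    ∀ F : X.Modules, Coh.IsCoh F → ψ (cl δ n F) = cl δ n (tw F z) := by
  haveI := h.noeth
  have hT : ∀ S : ShortComplex X.Modules, S.ShortExact → (S.map (tF (rep z))).ShortExact := fun S hS =>
    OX.tensor_map_shortExact (OX.flat_of_isFinLocFree (Euler.isFinLocFree_of_isInvertible (isInv_rep z))) hS
  have hc : ∀ M : X.Modules, Coh.IsCoh M → Cyc.CohLe δ n (tw M z) := fun M hM =>
    cohLe_of_le h.le (isCoh_tensor hM (isInv_rep z))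
  have hadd : ∀ S : ShortComplex X.Modules, S.ShortExact → Cyc.CohLe δ n S.X₁ → Cyc.CohLe δ n S.X₂ →
      Cyc.CohLe δ n S.X₃ → cl δ n (tw S.X₂ z) = cl δ n (tw S.X₁ z) + cl δ n (tw S.X₃ z) := by
    intro S hS h₁ h₂ h₃
    have a₁ : Cyc.CohLe δ n (S.map (tF (rep z))).X₁ := hc S.X₁ h₁.1
    have a₂ : Cyc.CohLe δ n (S.map (tF (rep z))).X₂ := hc S.X₂ h₂.1
    have a₃ : Cyc.CohLe δ n (S.map (tF (rep z))).X₃ := hc S.X₃ h₃.1
    exact K0Sub.clSub_add (hT S hS) a₁ a₂ a₃
  obtain ⟨ψ, hψ⟩ := K0Sub.exists_lift (P := Cyc.CohLe δ n) (fun F => cl δ n (tw F z)) hadd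
  exact ⟨ψ, fun F hF => hψ F (cohLe_of_le h.le hF)⟩

/-- The twist by a class. -/
def twist (z : Pic X) : K δ n →+ K δ n := (exists_twist h z).choose

theorem twist_cl (z : Pic X) {F : X.Modules} (hF : Coh.IsCoh F) :
    twist h z (cl δ n F) = cl δ n (tw F z) :=
  (exists_twist h z).choose_spec F hF

theorem twist_cl_hasCls {z : Pic X} {L : X.Modules} (hL : HasCls L z) {F : X.Modules} (hF : Coh.IsCoh F) :
    twist h z (cl δ n F) = cl δ n ((tF L).obj F) := by
  haveI := h.noeth
  obtain ⟨e⟩ := tw_iso (F := F) hL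
  rw [twist_cl h z hF, cl_iso h.le e (isCoh_tensor hF (isInv_rep z))]

theorem twist_one : twist h 1 = AddMonoidHom.id _ := by
  haveI := h.noeth
  refine K0Sub.hom_ext fun F hF => ?_
  rw [twist_cl_hasCls h (hasCls_structureModule X) hF.1, AddMonoidHom.id_apply]
  exact cl_iso h.le (Euler.tFUnitIso F) (isCoh_tensor hF.1 Euler.isInvertible_structure)

theorem twist_mul (z w : Pic X) : twist h (z * w) = (twist h z).comp (twist h w) := by
  haveI := h.noeth
  refine K0Sub.hom_ext fun F hF => ?_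
  have hr : ∀ a : Pic X, HasCls (rep a) a := fun a => ⟨isInv_rep a, cls_rep a⟩
  have hc := isCoh_tensor hF.1 (isInv_rep w)
  rw [AddMonoidHom.comp_apply, twist_cl h w hF.1, twist_cl h z hc, mul_comm z w,
    twist_cl_hasCls h ((hr w).tensor (hr z)) hF.1]
  exact (cl_iso h.le (OX.tensorAssoc F (rep w) (rep z)) (isCoh_tensor hc (isInv_rep z))).symm

/-- The twists as a multiplicative map. -/
def twistHom : Pic X →* AddMonoid.End (K δ n) where
  toFun := twist h
  map_one' := twist_one h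
  map_mul' := twist_mul h

/-- The action of the group ring of the Picard group. -/
def act : MonoidAlgebra ℤ (Pic X) →+* AddMonoid.End (K δ n) :=
  MonoidAlgebra.liftNCRingHom (Int.castRingHom _) (twistHom h) fun a b => (Int.cast_commute a _)

/-- The group ring element of a class. -/
abbrev e (z : Pic X) : MonoidAlgebra ℤ (Pic X) := MonoidAlgebra.of ℤ (Pic X) z

theorem act_e (z : Pic X) (c : K δ n) : act h (e z) c = twist h z c := by
  have : act h (e z) = twistHom h z := by
    simp [act, e, MonoidAlgebra.of, MonoidAlgebra.liftNCRingHom, MonoidAlgebra.liftNC_single]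
  rw [this]
  rfl

theorem act_mul_apply (a b : MonoidAlgebra ℤ (Pic X)) (c : K δ n) : act h (a * b) c = act h a (act h b c) := by
  rw [map_mul]
  rfl

theorem act_one_apply (c : K δ n) : act h 1 c = c := by
  rw [map_one]
  rfl

theorem act_add_apply (a b : MonoidAlgebra ℤ (Pic X)) (c : K δ n) : act h (a + b) c = act h a c + act h b c := by
  rw [map_add]
  rfl

theorem act_sub_apply (a b : MonoidAlgebra ℤ (Pic X)) (c : K δ n) : act h (a - b) c = act h a c - act h b c := by
  rw [map_sub]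
  rfl

theorem act_int_apply (a : ℤ) (c : K δ n) : act h (a : MonoidAlgebra ℤ (Pic X)) c = a • c := by
  rw [map_intCast]
  exact AddMonoid.End.intCast_apply a c

/-- `1 - [z]` lowers the dimension. -/
theorem act_one_sub_mem {m : ℤ} (z : Pic X) {c : K δ n} (hc : c ∈ Kle δ n m) :
    act h (1 - e z) c ∈ Kle δ n (m - 1) := by
  haveI := h.noeth
  refine Kle_induction (fun c => act h (1 - e z) c ∈ Kle δ n (m - 1)) (fun F hF => ?_) ?_ ?_ hc
  · show act h (1 - e z) (cl δ n F) ∈ _
    rw [act_sub_apply, act_one_apply, act_e, twist_cl h z hF.1]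
    exact (AddSubgroup.sub_mem_comm_iff _).1
      (tensor_sub_mem h.le h.dimFun h.ample hF.1 (fun x hx => delta_le_of_cohLe hF hx) (isInv_rep z))
  · show act h (1 - e z) 0 ∈ _
    rw [map_zero]
    exact zero_mem _
  · intro a b ha hb
    show act h (1 - e z) (a - b) ∈ _
    rw [map_sub]
    exact sub_mem ha hb

theorem act_prod_mem {ι : Type*} (s : Finset ι) (z : ι → Pic X) : ∀ {m : ℤ} {c : K δ n}, c ∈ Kle δ n m →
    act h (∏ i ∈ s, (1 - e (z i))) c ∈ Kle δ n (m - s.card) := by
  classical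
  induction s using Finset.induction_on with
  | empty => intro m c hc; simpa [act_one_apply] using hc
  | @insert a s ha ih =>
    intro m c hc
    rw [Finset.prod_insert ha, act_mul_apply, Finset.card_insert_of_notMem ha]
    have := act_one_sub_mem h (z a) (ih hc)
    rwa [show m - ((s.card + 1 : ℕ) : ℤ) = m - s.card - 1 by push_cast; ring]

/-- The alternating sum as a product. -/
theorem prod_one_sub_e {ι : Type*} [Fintype ι] [DecidableEq ι] (z : ι → Pic X) :
    ∏ i, (1 - e (z i)) = ∑ I : Finset ι, (((-1 : ℤ) ^ I.card : ℤ) : MonoidAlgebra ℤ (Pic X)) * e (∏ i ∈ I, z i) := by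
  have h1 : ∀ i, (1 : MonoidAlgebra ℤ (Pic X)) - e (z i) = -e (z i) + 1 := fun i => by ring
  simp only [h1]
  rw [Finset.prod_add, Finset.powerset_univ]
  refine Finset.sum_congr rfl fun I _ => ?_
  rw [Int.cast_pow, Int.cast_neg, Int.cast_one, Finset.prod_neg, Finset.prod_const_one, mul_one,
    show e (∏ i ∈ I, z i) = ∏ i ∈ I, e (z i) from map_prod (MonoidAlgebra.of ℤ (Pic X)) z I]

theorem act_prod_apply {ι : Type*} [Fintype ι] [DecidableEq ι] (z : ι → Pic X) (c : K δ n) :
    act h (∏ i, (1 - e (z i))) c = ∑ I : Finset ι, ((-1 : ℤ) ^ I.card) • twist h (∏ i ∈ I, z i) c := by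
  rw [prod_one_sub_e, map_sum]
  refine (AddMonoidHom.finsetSum_apply
    (fun I : Finset ι => act h ((((-1 : ℤ) ^ I.card : ℤ) : MonoidAlgebra ℤ (Pic X)) * e (∏ i ∈ I, z i)))
    Finset.univ c).trans ?_
  refine Finset.sum_congr rfl fun I _ => ?_
  rw [act_mul_apply, act_int_apply, act_e]

/-- Classes of the lists of invertible modules. -/
theorem hasCls_tensorList {r : ℕ} {M : Fin r → X.Modules} (hM : ∀ i, PicF.IsInvertible (M i))
    (I : Finset (Fin r)) : HasCls (FGA.tensorList ((I.sort (· ≤ ·)).map M)) (∏ i ∈ I, clsMod (hM i)) := by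
  have key : ∀ l : List (Fin r), HasCls (FGA.tensorList (l.map M)) (l.map fun i => clsMod (hM i)).prod := by
    intro l
    induction l with
    | nil => exact hasCls_structureModule X
    | cons i l ih => exact HasCls.tensor (hasCls_clsMod (hM i)) ih
  have hI : ∏ i ∈ I, clsMod (hM i) = ((I.sort (· ≤ ·)).map fun i => clsMod (hM i)).prod := by
    rw [Finset.prod_eq_multiset_prod, ← Multiset.prod_coe, ← Multiset.map_coe, Finset.sort_eq]
  rw [hI]
  exact key _

theorem cl_tensorList {r : ℕ} {M : Fin r → X.Modules} (hM : ∀ i, PicF.IsInvertible (M i))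
    (I : Finset (Fin r)) {F : X.Modules} (hF : Coh.IsCoh F) :
    cl δ n (CohB1.tensorMod (FGA.tensorList ((I.sort (· ≤ ·)).map M)) F) = twist h (∏ i ∈ I, clsMod (hM i)) (cl δ n F) := by
  haveI := h.noeth
  have hI := hasCls_tensorList hM I
  rw [twist_cl_hasCls h hI hF]
  exact (cl_iso h.le (GrTilde.tensorModComm _ F).symm (isCoh_tensor hF hI.1)).symm

theorem sum_cl_tensorList {r : ℕ} {M : Fin r → X.Modules} (hM : ∀ i, PicF.IsInvertible (M i))
    {F G : X.Modules} (hF : Coh.IsCoh F) (hG : Coh.IsCoh G) :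
    (∑ I : Finset (Fin r), ((-1 : ℤ) ^ I.card) •
      (cl δ n (CohB1.tensorMod (FGA.tensorList ((I.sort (· ≤ ·)).map M)) F) -
        cl δ n (CohB1.tensorMod (FGA.tensorList ((I.sort (· ≤ ·)).map M)) G))) =
      act h (∏ i, (1 - e (clsMod (hM i)))) (cl δ n F - cl δ n G) := by
  rw [act_prod_apply]
  exact Finset.sum_congr rfl fun I _ => by rw [cl_tensorList h hM I hF, cl_tensorList h hM I hG, ← map_sub]

end GrothLib.RefK12
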