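import Groth.Agent.Lib.RefK12.Stalk
import Groth.Agent.Lib.CurveMult.GGCurve
import Groth.Agent.Lib.Ample.Generation
import Groth.Agent.Lib.FinCov.FrameFree
import Groth.Agent.Lib.ResProp22.Ample
import Groth.Agent.Lib.Ref1.Powers
import Groth.Agent.Lib.BddReg26.Quotient

/-!
# Maps from invertible modules onto the free stalks at finitely many points
-/

set_option autoImplicit false
set_option linter.all false
set_option backward.isDefEq.respectTransparency false
set_option maxHeartbeats 400000

universe u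

open CategoryTheory CategoryTheory.Limits AlgebraicGeometry TopologicalSpace

noncomputable section

namespace GrothLib.RefK12

open GrothLib.Euler (tF)
open GrothLib.QCoh (stalkLin)
open GrothLib.Ref1 (Gen)

variable {X : Scheme.{u}}

theorem gen_unit_smul {G : X.Modules} {x : X} {t : G.presheaf.stalk x} (ht : Gen G x t)
    {c : X.presheaf.stalk x} (hc : IsUnit c) : Gen G x (c • t) := by
  have := ht.comp (Units.mulRight hc.unit).bijective
  simpa [Gen, Function.comp_def, mul_smul] using this

/-- A spanned module has at each free point a global section generating it. -/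
theorem exists_unit_coeff {G : X.Modules} (hG : UnifVanish7.StalkSpanned G) {x : X}
    {t : G.presheaf.stalk x} (ht : Gen G x t) :
    ∃ (s : Γ(G, ⊤)) (c : X.presheaf.stalk x), IsUnit c ∧ G.presheaf.germ ⊤ x trivial s = c • t := by
  by_contra hne
  push Not at hne
  have hle : UnifVanish7.spanGlobal G x ≤
      (IsLocalRing.maximalIdeal (X.presheaf.stalk x)) • (⊤ : Submodule (X.presheaf.stalk x) (G.presheaf.stalk x)) := by
    rw [Submodule.span_le]
    rintro _ ⟨s, rfl⟩
    obtain ⟨c, hc⟩ := ht.2 (G.presheaf.germ ⊤ x trivial s)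
    show G.presheaf.germ ⊤ x trivial s ∈ _
    rw [← hc]
    refine Submodule.smul_mem_smul ?_ trivial
    exact (IsLocalRing.mem_maximalIdeal _).2 fun hu => hne s c hu hc.symm
  rw [hG x] at hle
  have h1 : t ∈ (IsLocalRing.maximalIdeal (X.presheaf.stalk x)) •
      (⊤ : Submodule (X.presheaf.stalk x) (G.presheaf.stalk x)) := hle trivial
  have h2 : ∀ v ∈ (IsLocalRing.maximalIdeal (X.presheaf.stalk x)) •
      (⊤ : Submodule (X.presheaf.stalk x) (G.presheaf.stalk x)),
      ∃ a ∈ IsLocalRing.maximalIdeal (X.presheaf.stalk x), a • t = v := by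
    intro v hv
    refine Submodule.smul_induction_on hv (fun a ha w _ => ?_) fun a b ⟨p, hp, hp'⟩ ⟨q, hq, hq'⟩ =>
      ⟨p + q, Ideal.add_mem _ hp hq, by rw [add_smul, hp', hq']⟩
    obtain ⟨c, rfl⟩ := ht.2 w
    exact ⟨a * c, Ideal.mul_mem_right _ _ ha, mul_smul a c t⟩
  obtain ⟨a, ha, hat⟩ := h2 t h1
  have : a = 1 := ht.1 (show a • t = (1 : X.presheaf.stalk x) • t by rw [hat, one_smul])
  exact (IsLocalRing.notMem_maximalIdeal.2 isUnit_one) (this ▸ ha)

variable {k : Type u} [Field k] [Infinite k] (ρ : k →+* Γ(X, ⊤))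

include ρ in
/-- Over an infinite field one global section generates at finitely many free points. -/
theorem exists_section_gen_all {G : X.Modules} (hG : UnifVanish7.StalkSpanned G) (T : Finset X)
    (hT : ∀ x ∈ T, ∃ t, Gen G x t) :
    ∃ s : Γ(G, ⊤), ∀ x ∈ T, Gen G x (G.presheaf.germ ⊤ x trivial s) := by
  classical
  choose! t ht using hT
  suffices h : ∃ s : Γ(G, ⊤), ∀ x ∈ T, ∃ c : X.presheaf.stalk x, IsUnit c ∧ G.presheaf.germ ⊤ x trivial s = c • t x by
    obtain ⟨s, hs⟩ := h
    refine ⟨s, fun x hx => ?_⟩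
    obtain ⟨c, hc, e⟩ := hs x hx
    rw [e]
    exact gen_unit_smul (ht x hx) hc
  revert ht
  induction T using Finset.induction_on with
  | empty => exact fun _ => ⟨0, by simp⟩
  | @insert a T ha ih =>
    intro ht
    obtain ⟨s, hs⟩ := ih fun x hx => ht x (Finset.mem_insert_of_mem hx)
    obtain ⟨sa, ca, hca, hsa⟩ := exists_unit_coeff hG (ht a (Finset.mem_insert_self a T))
    have hcd : ∀ y ∈ insert a T, ∃ c d : X.presheaf.stalk y,
        G.presheaf.germ ⊤ y trivial s = c • t y ∧ G.presheaf.germ ⊤ y trivial sa = d • t y ∧ (IsUnit c ∨ IsUnit d) := by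
      intro y hy
      obtain ⟨c, hc⟩ := (ht y hy).2 (G.presheaf.germ ⊤ y trivial s)
      obtain ⟨d, hd⟩ := (ht y hy).2 (G.presheaf.germ ⊤ y trivial sa)
      refine ⟨c, d, hc.symm, hd.symm, ?_⟩
      rcases Finset.mem_insert.1 hy with rfl | hyT
      · exact Or.inr ((ht y hy).1 (show d • t y = ca • t y from hd.trans hsa) ▸ hca)
      · obtain ⟨c', hc', e⟩ := hs y hyT
        exact Or.inl ((ht y hy).1 (show c • t y = c' • t y from hc.trans e) ▸ hc')
    choose! c d hc hd hor using hcd
    let r : (y : X) → k →+* X.presheaf.stalk y := fun y => (X.presheaf.germ ⊤ y trivial).hom.comp ρ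
    have hbad : ∀ y ∈ insert a T, {l : k | ¬ IsUnit (c y + r y l * d y)}.Subsingleton := by
      intro y hy l hl m hm
      by_contra hlm
      have hu : IsUnit (r y (l - m)) := (IsUnit.mk0 _ (sub_ne_zero.2 hlm)).map (r y)
      have h1 : c y + r y l * d y ∈ IsLocalRing.maximalIdeal (X.presheaf.stalk y) := (IsLocalRing.mem_maximalIdeal _).2 hl
      have h2 : c y + r y m * d y ∈ IsLocalRing.maximalIdeal (X.presheaf.stalk y) := (IsLocalRing.mem_maximalIdeal _).2 hm
      have h3 : r y (l - m) * d y ∈ IsLocalRing.maximalIdeal (X.presheaf.stalk y) := by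
        have := Ideal.sub_mem _ h1 h2
        rwa [show c y + r y l * d y - (c y + r y m * d y) = r y (l - m) * d y by rw [map_sub]; ring] at this
      have h4 : d y ∈ IsLocalRing.maximalIdeal (X.presheaf.stalk y) :=
        ((Ideal.IsMaximal.isPrime inferInstance).mem_or_mem h3).resolve_left (IsLocalRing.notMem_maximalIdeal.2 hu)
      have h5 : c y ∈ IsLocalRing.maximalIdeal (X.presheaf.stalk y) := by
        have := Ideal.sub_mem _ h1 (Ideal.mul_mem_left _ (r y l) h4)
        rwa [add_sub_cancel_right] at this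
      rcases hor y hy with h | h
      · exact IsLocalRing.notMem_maximalIdeal.2 h h5
      · exact IsLocalRing.notMem_maximalIdeal.2 h h4
    obtain ⟨l, hl⟩ := ((insert a T).finite_toSet.biUnion fun y hy => (hbad y hy).finite).exists_notMem
    refine ⟨s + ρ l • sa, fun y hy => ⟨c y + r y l * d y, ?_, ?_⟩⟩
    · by_contra hu
      exact hl (Set.mem_iUnion₂.2 ⟨y, hy, hu⟩)
    · rw [map_add, add_smul, mul_smul, ← hc y hy, ← hd y hy]
      congr 1
      exact WeakAss.germ_smul (F := G) (V := ⊤) (x := y) trivial (ρ l) sa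

include ρ in
/-- A map from an invertible module that is bijective at finitely many free points. -/
theorem exists_map [IsLocallyNoetherian X] {L : X.Modules} (hL : CohB1.IsAmple L) {F : X.Modules}
    (hF : Coh.IsCoh F) {E : Set X} (hE : E.Finite) (hgen : ∀ x ∈ E, ∃ t, Gen F x t) :
    ∃ (H : X.Modules) (φ : H ⟶ F), PicF.IsInvertible H ∧ ∀ x ∈ E, Function.Bijective (stalkLin φ x) := by
  haveI : CompactSpace X := hL.2.1
  haveI := hF.1
  obtain ⟨c, ⟨e⟩⟩ := Ample.exists_cocycle hL.1
  obtain ⟨m, hm⟩ := c.eventually_isGloballyGenerated F ((c.isAmple_iff e).1 hL).2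
    (fun _ => ⟨⊤, trivial, fun W hW _ => FormalExist7.moduleFinite_sections_of_isCoh hF hW⟩)
  obtain ⟨d⟩ := c.nonempty_tensorPow_iso e m
  obtain ⟨w⟩ := c.nonempty_tensor_modTwist F m
  let P := CohB1.tensorPow L m
  have hP : PicF.IsInvertible P := Ample.isInvertible_tensorPow hL.1 m
  let G := CohB1.tensorMod F P
  have hgg : Curv2.IsGloballyGenerated G :=
    Ample.isGloballyGenerated_of_iso (((DCoh.tensorBi (X := X)).obj F).mapIso d ≪≫ w).symm (hm m le_rfl)
  obtain ⟨s, hs⟩ := exists_section_gen_all ρ (CurveMult.stalkSpanned_of_isGloballyGenerated hgg) hE.toFinset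
    fun x hx => by
      obtain ⟨t, ht⟩ := hgen x (hE.mem_toFinset.1 hx)
      obtain ⟨l, hl⟩ := Ref1.exists_gen_of_isInvertible hP x
      exact ⟨_, ht.tmulStalk F P hl⟩
  obtain ⟨P', hP', ⟨q⟩⟩ := ResProp22.exists_inverse hP
  let σ := FinCov.homOfSection s
  let a : (tF P').obj (Coh.structureModule X) ≅ P' := OX.tensorUnitLeftIso P'
  let b : (tF P').obj G ≅ F :=
    OX.tensorAssoc F P P' ≪≫ ((DCoh.tensorBi (X := X)).obj F).mapIso q ≪≫ Euler.tFUnitIso F
  refine ⟨P', a.inv ≫ (tF P').map σ ≫ b.hom, hP', fun x hx => ?_⟩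
  have hval : Ref1.valGerm σ x = G.presheaf.germ ⊤ x trivial s := by
    show G.presheaf.germ ⊤ x trivial (SecTwist.val σ ⊤) = _
    congr 1
    refine (FinCov.homOfSection_one s ⊤).trans ?_
    simp
  have hσ : Function.Bijective (stalkLin σ x) := by
    have h := (Ref1.bijective_iff_gen σ x).2 (hval ▸ hs x (hE.mem_toFinset.2 hx))
    rwa [show ⇑(stalkLin σ x) = ⇑(RefHull.stalkMapₗ σ x) from
      funext fun v => (Ref1.stalkMapₗ_eq_stalkLin σ x ▸ rfl)]
  exact bijective_stalkLin_comp (bijective_stalkLin_iso a.symm x)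
    (bijective_stalkLin_comp (bijective_tensor_map_right P' σ hσ) (bijective_stalkLin_iso b x))

end GrothLib.RefK12
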