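import Groth.Agent.Lib.RefK12.Rank1
import Groth.Agent.Lib.FrobDer12.Stalk
import Groth.Agent.Lib.Ref1.Dual
import Groth.Agent.Lib.CurvePoints.Basic
import Groth.Prelude.Def_RefFun
import Mathlib.LinearAlgebra.Dimension.RankNullity

/-!
# Modules free at the points of dimension at least `n - 1`

Sequences exact at these points are additive in `K₀` up to dimension `n - 2`, and every such module has a
filtration by rank one reflexive modules at these points.
-/

set_option autoImplicit false
set_option linter.all false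
set_option backward.isDefEq.respectTransparency false
set_option maxHeartbeats 400000

universe u

open CategoryTheory CategoryTheory.Limits AlgebraicGeometry TopologicalSpace

noncomputable section

namespace GrothLib.RefK12

open GrothLib.Euler (tF)
open GrothLib.QCoh (stalkLin)
open GrothLib.Ref1 (Gen hη sp spR)

variable {X : Scheme.{u}}

/-- A coherent module with free stalks at the points of dimension at least `n - 1`. -/
structure Good (δ : X → ℤ) (n : ℤ) (F : X.Modules) : Prop where
  coh : Coh.IsCoh F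
  free : ∀ x : X, n - 1 ≤ δ x → Module.Free (X.presheaf.stalk x) (F.presheaf.stalk x)

/-- A short sequence exact at the points of dimension at least `n - 1`. -/
structure TopExact (δ : X → ℤ) (n : ℤ) {A B C : X.Modules} (f : A ⟶ B) (g : B ⟶ C) : Prop where
  w : f ≫ g = 0
  inj : ∀ x : X, n - 1 ≤ δ x → Function.Injective (stalkLin f x)
  surj : ∀ x : X, n - 1 ≤ δ x → Function.Surjective (stalkLin g x)
  exact : ∀ x : X, n - 1 ≤ δ x → ∀ v, stalkLin g x v = 0 → ∃ a, stalkLin f x a = v

/-- The existence of such a sequence. -/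
def TopSeq (δ : X → ℤ) (n : ℤ) (A B C : X.Modules) : Prop := ∃ (f : A ⟶ B) (g : B ⟶ C), TopExact δ n f g

theorem stalkLin_zero' (A B : X.Modules) (x : X) (v : A.presheaf.stalk x) : stalkLin (0 : A ⟶ B) x v = 0 :=
  LinearMap.congr_fun (congrArg ModuleCat.Hom.hom ((OX.stalk x).map_zero A B)) v

theorem TopExact.comp_apply {δ : X → ℤ} {n : ℤ} {A B C : X.Modules} {f : A ⟶ B} {g : B ⟶ C}
    (S : TopExact δ n f g) (x : X) (a : A.presheaf.stalk x) : stalkLin g x (stalkLin f x a) = 0 := by
  rw [← QCoh.stalkLin_comp, S.w, stalkLin_zero']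

theorem exists_kernel_preimage {A B : X.Modules} (f : A ⟶ B) (x : X) {v : A.presheaf.stalk x}
    (h : stalkLin f x v = 0) : ∃ u, stalkLin (kernel.ι f) x u = v :=
  (ShortComplex.moduleCat_exact_iff _).1
    ((ShortComplex.exact_kernel f : (ShortComplex.mk _ f (kernel.condition f)).Exact).map (OX.stalk x)) v h

variable {δ : X → ℤ} {n : ℤ}

/-- The classes add up to dimension `n - 2`. -/
theorem TopExact.cl_sub_mem [IsNoetherian X] (hn : ∀ x : X, δ x ≤ n) {A B C : X.Modules} {f : A ⟶ B} {g : B ⟶ C}
    (S : TopExact δ n f g) (hA : Coh.IsCoh A) (hB : Coh.IsCoh B) (hC : Coh.IsCoh C) :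
    cl δ n B - (cl δ n A + cl δ n C) ∈ Kle δ n (n - 2) := by
  obtain ⟨w, hS⟩ := QCoh.shortExact_kernel_image g
  have hK := QCoh.isCoh_kernel g hB hC
  have hI : Coh.IsCoh (Abelian.image g) := QCoh.isCoh_kernel _ hC (QCoh.isCoh_cokernel g hB hC)
  have e : cl δ n B = cl δ n (kernel g) + cl δ n (Abelian.image g) :=
    K0Sub.clSub_add hS (cohLe_of_le hn hK) (cohLe_of_le hn hB) (cohLe_of_le hn hI)
  have hcomp : ∀ (x : X) a, stalkLin (kernel.ι g) x (stalkLin (kernel.lift g f S.w) x a) = stalkLin f x a :=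
    fun x a => by rw [← QCoh.stalkLin_comp, kernel.lift_ι]
  have m1 := sub_mem_of_map hn (m := n - 2) hA hK (kernel.lift g f S.w) fun x _ hx => by
    refine ⟨fun a b hab => S.inj x (by omega) ?_, fun u => ?_⟩
    · rw [← hcomp, ← hcomp, hab]
    · obtain ⟨a, ha⟩ := S.exact x (by omega) (stalkLin (kernel.ι g) x u)
        (by rw [← QCoh.stalkLin_comp, kernel.condition, stalkLin_zero'])
      exact ⟨a, QCoh.stalkLin_injective (kernel.ι g) x ((hcomp x a).trans ha)⟩
  have m2 := sub_mem_of_map hn (m := n - 2) hI hC (Abelian.image.ι g) fun x _ hx =>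
    ⟨QCoh.stalkLin_injective _ x, fun v => by
      obtain ⟨b, hb⟩ := S.surj x (by omega) v
      exact ⟨stalkLin (Abelian.factorThruImage g) x b, by rw [← QCoh.stalkLin_comp, Abelian.image.fac, hb]⟩⟩
  convert sub_mem m2 m1 using 1 <;> first | rfl | (rw [e]; abel)

/-! ### Freeness at the top -/

variable (h : Setting1 δ n)

include h in
theorem isPID_top [IsIntegral X] {x : X} (hx : n - 1 ≤ δ x) : IsPrincipalIdealRing (X.presheaf.stalk x) := by
  haveI := h.toSetting.noeth
  rcases (h.toSetting.le x).lt_or_eq with hlt | heq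
  · haveI := Ref1.isDiscreteValuationRing_of_dim_one h.normal
      (Ref1.dim_one_of_coheight (h.codimOne x (by omega)))
    infer_instance
  · obtain rfl := eq_generic h (x := x) (by omega)
    letI : Field (X.presheaf.stalk (genericPoint X)) := CurvePoints.isField_stalk_genericPoint.toField
    infer_instance

theorem finite_stalk [IsLocallyNoetherian X] {F : X.Modules} (hF : Coh.IsCoh F) (x : X) :
    Module.Finite (X.presheaf.stalk x) (F.presheaf.stalk x) :=
  (HomSh.hasRel_of_isCoh hF).span_stalk x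

include h in
/-- Torsion free coherent modules are free at the top. -/
theorem good_of_torsionFree [IsIntegral X] {F : X.Modules} (hF : Coh.IsCoh F)
    (htf : ∀ x : X, Module.IsTorsionFree (X.presheaf.stalk x) (F.presheaf.stalk x)) : Good δ n F := by
  haveI := h.toSetting.noeth
  refine ⟨hF, fun x hx => ?_⟩
  haveI := isPID_top h hx
  haveI := finite_stalk hF x
  haveI := htf x
  exact Module.free_of_finite_type_torsion_free'

include h in
theorem good_of_isReflexive [IsIntegral X] {F : X.Modules} (hF : Coh.IsCoh F) (hr : RefHull.IsReflexive F) :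
    Good δ n F := by
  haveI := h.toSetting.noeth
  refine good_of_torsionFree h hF fun x => ?_
  haveI : Module.IsReflexive (X.presheaf.stalk x) (F.presheaf.stalk x) :=
    (HomSh.isReflexive_iff (HomSh.hasRel_of_isCoh hF)).1 hr x
  exact Ref1.isTorsionFree_of_isReflexive _ _

include h in
theorem good_ref1 [IsIntegral X] {ℒ : X.Modules} (hℒ : RefHull.IsRef1 ℒ) : Good δ n ℒ :=
  good_of_isReflexive h hℒ.1 hℒ.2.1

include h in
/-- Being free at the top passes to modules injecting there. -/
theorem good_of_injective [IsIntegral X] {F G : X.Modules} (φ : F ⟶ G) (hF : Coh.IsCoh F) (hG : Good δ n G)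
    (hi : ∀ x : X, n - 1 ≤ δ x → Function.Injective (stalkLin φ x)) : Good δ n F := by
  haveI := h.toSetting.noeth
  refine ⟨hF, fun x hx => ?_⟩
  haveI := isPID_top h hx
  haveI := hG.free x hx
  haveI := finite_stalk hG.coh x
  obtain ⟨m, b⟩ := Submodule.basisOfPid (Module.Free.chooseBasis (X.presheaf.stalk x) (G.presheaf.stalk x))
    (LinearMap.range (stalkLin φ x))
  exact Module.Free.of_basis (b.map (LinearEquiv.ofInjective _ (hi x hx)).symm)

include h in
theorem bijective_bidual_top [IsIntegral X] {F : X.Modules} (hF : Good δ n F) {x : X} (hx : n - 1 ≤ δ x) :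
    Function.Bijective (stalkLin (RefHull.bidualMap F) x) := by
  haveI := h.toSetting.noeth
  haveI := hF.free x hx
  haveI := finite_stalk hF.coh x
  refine (HomSh.bijective_bidual_iff (HomSh.hasRel_of_isCoh hF.coh) x).2 ?_
  show Module.IsReflexive (X.presheaf.stalk x) (F.presheaf.stalk x)
  infer_instance

include h in
theorem good_ddual [IsIntegral X] {F : X.Modules} (hF : Good δ n F) : Good δ n (RefHull.ddual F) := by
  haveI := h.toSetting.noeth
  refine ⟨HomSh.isCoh_dual (HomSh.hasRel_dual (HomSh.hasRel_of_isCoh hF.coh)), fun x hx => ?_⟩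
  haveI := hF.free x hx
  exact Module.Free.of_equiv (LinearEquiv.ofBijective _ (bijective_bidual_top h hF hx))

/-! ### Ranks -/

/-- The rank at the generic point. -/
abbrev rk [IrreducibleSpace X] (F : X.Modules) : ℕ :=
  Module.finrank (X.presheaf.stalk (genericPoint X)) (F.presheaf.stalk (genericPoint X))

theorem TopExact.rk_eq [IsIntegral X] [IsLocallyNoetherian X] {A B C : X.Modules} {f : A ⟶ B} {g : B ⟶ C}
    (S : TopExact δ n f g) (hη₀ : n - 1 ≤ δ (genericPoint X)) (hB : Coh.IsCoh B) : rk B = rk A + rk C := by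
  letI : Field (X.presheaf.stalk (genericPoint X)) := CurvePoints.isField_stalk_genericPoint.toField
  haveI := finite_stalk hB (genericPoint X)
  have hr : LinearMap.range (stalkLin g (genericPoint X)) = ⊤ := LinearMap.range_eq_top.2 (S.surj _ hη₀)
  have hk : LinearMap.ker (stalkLin g (genericPoint X)) = LinearMap.range (stalkLin f (genericPoint X)) := by
    ext v
    refine ⟨fun hv => S.exact _ hη₀ v hv, ?_⟩
    rintro ⟨a, rfl⟩
    exact S.comp_apply _ a
  have := LinearMap.finrank_range_add_finrank_ker (stalkLin g (genericPoint X))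
  rw [hr, finrank_top, hk, LinearMap.finrank_range_of_inj (S.inj _ hη₀)] at this
  have h2 : rk C + rk A = rk B := this
  rw [← h2, add_comm]

include h in
theorem cl_mem_of_rk_zero [IsIntegral X] {F : X.Modules} (hF : Good δ n F) (h0 : rk F = 0) :
    cl δ n F ∈ Kle δ n (n - 2) := by
  haveI := h.toSetting.noeth
  haveI := hF.coh.1
  letI : Field (X.presheaf.stalk (genericPoint X)) := CurvePoints.isField_stalk_genericPoint.toField
  haveI := finite_stalk hF.coh (genericPoint X)
  haveI : Subsingleton (F.presheaf.stalk (genericPoint X)) := Module.finrank_zero_iff.1 h0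
  refine cl_mem_Kle hF.coh fun x hx => ?_
  by_contra hlt
  haveI := hF.free x (by omega)
  refine hx (subsingleton_of_forall_eq 0 fun v => ?_)
  obtain ⟨a, ha, h0⟩ := Ref1.exists_smul_eq_zero_of_sp F (hη x) v (Subsingleton.elim _ _)
  exact (smul_eq_zero.1 h0).resolve_left (Ref1.ne_zero_of_isUnit_spR _ ha)

/-! ### A rank one quotient -/

theorem evalStalk_dualMap {F G : X.Modules} (φ : F ⟶ G) (x : X) (θ : (RefHull.dual G).presheaf.stalk x) :
    RefHull.evalStalk F (Coh.structureModule X) x (stalkLin (RefFun.dualMap φ) x θ) =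
      (RefHull.evalStalk G (Coh.structureModule X) x θ).comp (RefHull.stalkMapₗ φ x) := by
  obtain ⟨U, hx, g, rfl⟩ := TopCat.Presheaf.exists_germ_eq (RefHull.dual G).presheaf θ
  rw [QCoh.stalkLin_germ, RefHull.evalStalk_germ, RefHull.evalStalk_germ, RefFun.homComap_app_apply]

include h in
/-- A module with nonzero generic stalk maps nontrivially into a rank one reflexive module. -/
theorem exists_hom_ref1 [IsIntegral X] {F : X.Modules} (hF : Coh.IsCoh F) (hr : rk F ≠ 0) :
    ∃ (N : X.Modules) (g : F ⟶ N), RefHull.IsRef1 N ∧ ∃ v, stalkLin g (genericPoint X) v ≠ 0 := by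
  classical
  haveI := h.toSetting.noeth
  letI : Field (X.presheaf.stalk (genericPoint X)) := CurvePoints.isField_stalk_genericPoint.toField
  haveI := finite_stalk hF (genericPoint X)
  haveI : Nontrivial (F.presheaf.stalk (genericPoint X)) := Module.nontrivial_of_finrank_pos (Nat.pos_of_ne_zero hr)
  have hR := HomSh.hasRel_of_isCoh hF
  let D := RefHull.dual F
  have hD : Coh.IsCoh D := HomSh.isCoh_dual hR
  let η₀ := genericPoint X
  let K := X.presheaf.stalk η₀
  have hev := hR.evalStalk_bijective (Coh.structureModule X) η₀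
  haveI : Nontrivial (D.presheaf.stalk η₀) := by
    let bF := Module.Free.chooseBasis K (F.presheaf.stalk η₀)
    obtain ⟨i⟩ := bF.index_nonempty
    obtain ⟨θ, hθ⟩ := hev.2 ((HomSh.unitStalk η₀).toLinearMap.comp (bF.coord i))
    refine ⟨⟨θ, 0, fun e0 => ?_⟩⟩
    rw [e0, map_zero] at hθ
    have := LinearMap.congr_fun hθ.symm (bF i)
    rw [LinearMap.comp_apply, LinearMap.zero_apply, LinearEquiv.coe_toLinearMap, LinearEquiv.map_eq_zero_iff,
      Module.Basis.coord_apply, Module.Basis.repr_self, Finsupp.single_eq_same] at this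
    exact one_ne_zero this
  -- a twisted global section, nonzero at the generic point
  obtain ⟨L, hL⟩ := h.toSetting.ample
  haveI : CompactSpace X := hL.2.1
  haveI := hD.1
  obtain ⟨c, ⟨e⟩⟩ := Ample.exists_cocycle hL.1
  obtain ⟨m, hm⟩ := c.eventually_isGloballyGenerated D ((c.isAmple_iff e).1 hL).2
    (fun _ => ⟨⊤, trivial, fun W hW _ => FormalExist7.moduleFinite_sections_of_isCoh hD hW⟩)
  obtain ⟨d⟩ := c.nonempty_tensorPow_iso e m
  obtain ⟨w⟩ := c.nonempty_tensor_modTwist D m
  let P := CohB1.tensorPow L m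
  have hP : PicF.IsInvertible P := Ample.isInvertible_tensorPow hL.1 m
  let G := CohB1.tensorMod D P
  have hgg : Curv2.IsGloballyGenerated G :=
    Ample.isGloballyGenerated_of_iso (((DCoh.tensorBi (X := X)).obj D).mapIso d ≪≫ w).symm (hm m le_rfl)
  haveI : Nontrivial (G.presheaf.stalk η₀) := by
    obtain ⟨t, ht⟩ := Ref1.exists_gen_of_isInvertible hP η₀
    let el := LinearEquiv.ofBijective (LinearMap.toSpanSingleton K _ t) ht
    exact ((Ref1.tensorStalk D P η₀).trans
      ((TensorProduct.congr (LinearEquiv.refl _ _) el.symm).trans (TensorProduct.rid _ _))).toEquiv.nontrivial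
  obtain ⟨s, hs⟩ : ∃ s : Γ(G, ⊤), G.presheaf.germ ⊤ η₀ trivial s ≠ 0 := by
    by_contra hne
    push Not at hne
    have h1 := CurveMult.stalkSpanned_of_isGloballyGenerated hgg η₀
    have h2 : UnifVanish7.spanGlobal G η₀ = ⊥ := by
      refine le_bot_iff.1 (Submodule.span_le.2 ?_)
      rintro _ ⟨s, rfl⟩
      exact hne s
    exact bot_ne_top (h2.symm.trans h1)
  obtain ⟨P', hP', ⟨q⟩⟩ := ResProp22.exists_inverse hP
  let σ := FinCov.homOfSection s
  let a : (tF P').obj (Coh.structureModule X) ≅ P' := OX.tensorUnitLeftIso P'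
  let b : (tF P').obj G ≅ D :=
    OX.tensorAssoc D P P' ≪≫ ((DCoh.tensorBi (X := X)).obj D).mapIso q ≪≫ Euler.tFUnitIso D
  have hσ : Function.Injective (stalkLin σ η₀) := by
    rw [← Ref1.stalkMapₗ_eq_stalkLin σ η₀]
    have hval : Ref1.valGerm σ η₀ = G.presheaf.germ ⊤ η₀ trivial s := by
      show G.presheaf.germ ⊤ η₀ trivial (SecTwist.val σ ⊤) = _
      congr 1
      refine (FinCov.homOfSection_one s ⊤).trans ?_
      simp
    intro u v huv
    obtain ⟨cu, rfl⟩ := (HomSh.unitStalk η₀).surjective u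
    obtain ⟨cv, rfl⟩ := (HomSh.unitStalk η₀).surjective v
    rw [Ref1.stalkMapₗ_unitStalk, Ref1.stalkMapₗ_unitStalk] at huv
    have h0 : (cu - cv) • Ref1.valGerm σ η₀ = 0 := by rw [sub_smul, huv, sub_self]
    exact congrArg _ (sub_eq_zero.1 ((smul_eq_zero.1 h0).resolve_right (hval ▸ hs)))
  obtain ⟨t', ht'⟩ := Ref1.exists_gen_of_isInvertible hP' η₀
  let φ : P' ⟶ D := a.inv ≫ (tF P').map σ ≫ b.hom
  have hφ : Function.Injective (stalkLin φ η₀) :=
    injective_stalkLin_comp (bijective_stalkLin_iso a.symm η₀).1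
      (injective_stalkLin_comp (injective_tensor_map_right P' σ ht' hσ) (bijective_stalkLin_iso b η₀).1)
  refine ⟨RefHull.dual P', RefHull.bidualMap F ≫ RefFun.dualMap φ,
    Ref1.isRef1_dual _ (FacDiv.isRef1_of_isInvertible hP'), ?_⟩
  by_contra hne
  push Not at hne
  refine ht'.ne_zero (hφ ?_)
  rw [map_zero]
  refine hev.1 ?_
  rw [map_zero]
  refine LinearMap.ext fun v => ?_
  have h1 := congrArg (RefHull.evalStalk P' (Coh.structureModule X) η₀) (hne v)
  rw [QCoh.stalkLin_comp, evalStalk_dualMap, map_zero, HomSh.evalStalk_bidual] at h1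
  have h2 := LinearMap.congr_fun h1 t'
  rw [LinearMap.comp_apply, RefHull.bidualAt_apply, Ref1.stalkMapₗ_eq_stalkLin] at h2
  exact h2

include h in
/-- A module free at the top has a rank one reflexive quotient at the top. -/
theorem exists_step [IsIntegral X] {F : X.Modules} (hF : Good δ n F) (hr : rk F ≠ 0) :
    ∃ (K' ℒ : X.Modules), Good δ n K' ∧ RefHull.IsRef1 ℒ ∧ TopSeq δ n K' F ℒ := by
  haveI := h.toSetting.noeth
  obtain ⟨N, g, hN, v, hv⟩ := exists_hom_ref1 h hF.coh hr
  let η₀ := genericPoint X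
  let I := Abelian.image g
  have hI : Coh.IsCoh I := QCoh.isCoh_kernel _ hN.1 (QCoh.isCoh_cokernel g hF.coh hN.1)
  let ι : I ⟶ N := Abelian.image.ι g
  have hι : ∀ x, Function.Injective (stalkLin ι x) := fun x => QCoh.stalkLin_injective ι x
  have hIg : Good δ n I := good_of_injective h ι hI (good_ref1 h hN) fun x _ => hι x
  let u := stalkLin (Abelian.factorThruImage g) η₀ v
  have hu : stalkLin ι η₀ u ≠ 0 := by
    rw [← QCoh.stalkLin_comp, Abelian.image.fac]
    exact hv
  obtain ⟨e, he⟩ := Ref1.exists_gen_of_genInvertible hN.2.2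
  have hgu := Ref1.gen_of_ne_zero he hu
  have hu' : Gen I η₀ u := by
    refine ⟨fun a b hab => hgu.1 ?_, fun z => ?_⟩
    · have := congrArg (stalkLin ι η₀) hab
      rwa [map_smul, map_smul] at this
    · obtain ⟨a, ha⟩ := hgu.2 (stalkLin ι η₀ z)
      exact ⟨a, hι η₀ ((map_smul _ a u).trans ha)⟩
  have hℒ := Ref1.isRef1_ddual (HomSh.hasRel_of_isCoh hI) hu'
  let g' : F ⟶ RefHull.ddual I := Abelian.factorThruImage g ≫ RefHull.bidualMap I
  have hK := QCoh.isCoh_kernel g' hF.coh hℒ.1
  refine ⟨kernel g', RefHull.ddual I,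
    good_of_injective h (kernel.ι g') hK hF fun x _ => QCoh.stalkLin_injective _ x, hℒ, kernel.ι g', g', ?_⟩
  refine ⟨kernel.condition g', fun x _ => QCoh.stalkLin_injective _ x, fun x hx z => ?_,
    fun x _ z hz => exists_kernel_preimage g' x hz⟩
  obtain ⟨i, rfl⟩ := (bijective_bidual_top h hIg hx).2 z
  obtain ⟨b, rfl⟩ := QCoh.stalkLin_surjective (Abelian.factorThruImage g) x i
  exact ⟨b, QCoh.stalkLin_comp _ _ _ _⟩

end GrothLib.RefK12
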