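import Groth.Agent.Lib.RefK12.Setup
import Groth.Agent.Lib.PBDeg17.Split
import Groth.Agent.Lib.ChowStrata17.Basic

/-!
# The dimension function of a variety
-/

set_option autoImplicit false
set_option linter.all false

universe u

open CategoryTheory AlgebraicGeometry

noncomputable section

namespace GrothLib.RefK12

theorem exists_delta (k : Type u) [Field k] {X : Scheme.{u}} [X.Over (Spec (CommRingCat.of k))] [IsIntegral X]
    [LocallyOfFiniteType (X ↘ Spec (CommRingCat.of k))] {n : ℕ} (hdim : topologicalKrullDim X = n) :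
    ∃ δ : X → ℤ, Cyc.IsSetup X δ ∧ δ (genericPoint X) = n := by
  let f := X ↘ Spec (CommRingCat.of k)
  haveI : IsNoetherianRing (CommRingCat.of k : Type u) := inferInstanceAs (IsNoetherianRing k)
  have hS := ChowStrata17.isSetup_point k
  haveI := hS.1
  obtain ⟨δ, hδ⟩ := CycP1.exists_deltaCompat f (fun _ => (0 : ℤ))
  refine ⟨δ, PBDeg.isSetup_of_lft hS f hδ, ?_⟩
  obtain ⟨m, hm, hm'⟩ := ChowStrata17.delta_eq_ptDim f hδ (genericPoint X)
  rw [AffDom.ptDim, (genericPoint_spec X).def] at hm'
  have h1 : (m : WithBot ℕ∞) = (n : WithBot ℕ∞) :=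
    hm'.symm.trans ((IsHomeomorph.topologicalKrullDim_eq _ (Homeomorph.Set.univ X).isHomeomorph).trans hdim)
  rw [hm, show m = n by exact_mod_cast h1]

end GrothLib.RefK12
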