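import Groth.Agent.Lib.RefK12.Ops
import Groth.Agent.Lib.RefK12.Delta
import Groth.Agent.Lib.Ref1.Dual
import Mathlib.Topology.Algebra.Order.Field
import Mathlib.Analysis.SpecificLimits.Basic
import Mathlib.Tactic.LinearCombination

/-!
# Intersection numbers of reflexive powers
-/

set_option autoImplicit false
set_option linter.all false
set_option backward.isDefEq.respectTransparency false
set_option maxHeartbeats 400000

universe u

open CategoryTheory CategoryTheory.Limits AlgebraicGeometry TopologicalSpace Filter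

noncomputable section

namespace GrothLib.RefK12

open GrothLib.Euler (tF)
open GrothLib.Cube (Pic clsMod HasCls hasCls_clsMod hasCls_structureModule)
open GrothLib.Ref1 (Gen hη sp secOrd)

variable {X : Scheme.{u}} {δ : X → ℤ} {n : ℤ}

/-! ### The Euler characteristic on classes -/

section Chi

variable (k : Type u) [Field k] [X.Over (Spec (CommRingCat.of k))] [IsProper (X ↘ Spec (CommRingCat.of k))]

theorem exists_chi : ∃ χ : K δ n →+ ℤ, ∀ F : X.Modules, Cyc.CohLe δ n F → χ (cl δ n F) = Curv2.euler k X F :=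
  K0Sub.exists_lift (P := Cyc.CohLe δ n) (fun F => Curv2.euler k X F) fun S hS h₁ h₂ h₃ =>
    Euler.euler_additive k hS h₁.1 h₂.1 h₃.1

/-- The Euler characteristic of a class. -/
def chi : K δ n →+ ℤ := (exists_chi (δ := δ) (n := n) k).choose

theorem chi_cl (hn : ∀ x : X, δ x ≤ n) {F : X.Modules} (hF : Coh.IsCoh F) :
    chi k (cl δ n F) = Curv2.euler k X F :=
  (exists_chi (δ := δ) (n := n) k).choose_spec F (cohLe_of_le hn hF)

theorem intNum_eq_chi (h : Setting δ n) {d : ℕ} (hd : topologicalKrullDim X ≤ (d : WithBot ℕ∞)) {r : ℕ}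
    {M : Fin r → X.Modules} (hM : ∀ i, PicF.IsInvertible (M i)) {F : X.Modules} (hF : Coh.IsCoh F) :
    FGA.intNum k X d M F = chi k (act h (∏ i, (1 - e (clsMod (hM i)))) (cl δ n F)) := by
  haveI := h.noeth
  rw [act_prod_apply, map_sum, FGA.intNum]
  refine Finset.sum_congr rfl fun I _ => ?_
  rw [map_zsmul, smul_eq_mul, ← cl_tensorList h hM I hF, chi_cl k h.le, FGAInt26.eulerCharLE_eq k hd]
  exact QCoh.isCoh_of_iso (GrTilde.tensorModComm F _) (isCoh_tensor hF (hasCls_tensorList hM I).1)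

end Chi

/-! ### Reflexive powers -/

/-- The reflexive tensor product with an invertible module is the tensor product. -/
theorem nonempty_refTensor_invertible [IsIntegral X] [IsLocallyNoetherian X] {G L : X.Modules}
    (hG : RefHull.IsRef1 G) (hL : PicF.IsInvertible L) :
    Nonempty (CohB1.tensorMod G L ≅ RefPow.refTensor G L) := by
  have hR := Ref1.hasRel_tensorMod (HomSh.hasRel_of_isCoh hG.1) (Ref1.hasRel_of_isInvertible hL)
  haveI : IsIso (RefPow.toRefTensor G L) := by
    refine (OX.isIso_iff _).2 fun x => (ConcreteCategory.isIso_iff_bijective _).2 ?_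
    obtain ⟨l, hl⟩ := Ref1.exists_gen_of_isInvertible hL x
    let el := LinearEquiv.ofBijective (LinearMap.toSpanSingleton (X.presheaf.stalk x) _ l) hl
    haveI : Module.IsReflexive (X.presheaf.stalk x) (G.presheaf.stalk x) :=
      (HomSh.isReflexive_iff (HomSh.hasRel_of_isCoh hG.1)).1 hG.2.1 x
    let eG : (CohB1.tensorMod G L).presheaf.stalk x ≃ₗ[X.presheaf.stalk x] G.presheaf.stalk x :=
      (Ref1.tensorStalk G L x).trans ((TensorProduct.congr (LinearEquiv.refl _ _) el.symm).trans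
        (TensorProduct.rid _ _))
    have hr : Module.IsReflexive (X.presheaf.stalk x) ((CohB1.tensorMod G L).presheaf.stalk x) :=
      Module.equiv eG.symm
    exact (HomSh.bijective_bidual_iff hR x).2 hr
  exact ⟨asIso (RefPow.toRefTensor G L)⟩

theorem hasCls_of_iso {L L' : X.Modules} {z : Pic X} (h : HasCls L z) (e : L ≅ L') : HasCls L' z := by
  obtain ⟨hL, rfl⟩ := h
  obtain ⟨c, ⟨i⟩⟩ := Ample.exists_cocycle hL
  exact ⟨c.isInvertible_of_iso (e.symm ≪≫ i),
    (Cube.clsMod_eq _ (e.symm ≪≫ i)).trans (Cube.clsMod_eq hL i).symm⟩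

theorem hasCls_refPow [IsIntegral X] [IsLocallyNoetherian X] {L : X.Modules} {w : Pic X} (hL : HasCls L w) :
    ∀ m : ℕ, HasCls (RefPow.refPow L m) (w ^ m)
  | 0 => by rw [pow_zero]; exact hasCls_structureModule X
  | 1 => by rw [pow_one]; exact hL
  | m + 2 => by
    have ih := hasCls_refPow hL (m + 1)
    obtain ⟨i⟩ := nonempty_refTensor_invertible (FacDiv.isRef1_of_isInvertible ih.1) hL.1
    rw [pow_succ]
    exact hasCls_of_iso (ih.tensor hL) i

theorem exists_secOrd_refPow [IsIntegral X] [IsLocallyNoetherian X] (hX : Pi1.IsNormalScheme X) {F : X.Modules}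
    (hF : RefHull.IsRef1 F) {v : F.presheaf.stalk (genericPoint X)} (hv : v ≠ 0) :
    ∀ m : ℕ, ∃ u : (RefPow.refPow F m).presheaf.stalk (genericPoint X), u ≠ 0 ∧
      ∀ x : X, Order.coheight x = 1 → secOrd (RefPow.refPow F m) u x = m * secOrd F v x
  | 0 => ⟨HomSh.unitStalk (genericPoint X) 1,
      fun h => one_ne_zero ((HomSh.unitStalk (genericPoint X)).map_eq_zero_iff.1 h),
      fun x hx => by rw [Nat.cast_zero, zero_mul]; exact Ref1.secOrd_unit hx⟩
  | 1 => ⟨v, hv, fun x hx => by rw [Nat.cast_one, one_mul]; rfl⟩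
  | m + 2 => by
    obtain ⟨u, hu, hord⟩ := exists_secOrd_refPow hX hF hv (m + 1)
    have hP := Ref1.isRef1_refPow hF (m + 1)
    refine ⟨Ref1.refMul (RefPow.refPow F (m + 1)) F u v, Ref1.refMul_ne_zero hP hF hu hv, fun x hx => ?_⟩
    refine (Ref1.secOrd_refMul hX hP hF hu hv hx).trans ?_
    rw [hord x hx]
    push_cast
    ring

/-- Reflexive powers of a reflexive product. -/
theorem nonempty_refPow_refTensor [IsIntegral X] [IsLocallyNoetherian X] (hX : Pi1.IsNormalScheme X)
    {F G : X.Modules} (hF : RefHull.IsRef1 F) (hG : RefHull.IsRef1 G) (m : ℕ) :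
    Nonempty (RefPow.refPow (RefPow.refTensor F G) m ≅
      RefPow.refTensor (RefPow.refPow F m) (RefPow.refPow G m)) := by
  obtain ⟨v, hv⟩ := Ref1.exists_ne_zero_of_isRef1 hF
  obtain ⟨w, hw⟩ := Ref1.exists_ne_zero_of_isRef1 hG
  obtain ⟨a, ha, hao⟩ := exists_secOrd_refPow hX hF hv m
  obtain ⟨b, hb, hbo⟩ := exists_secOrd_refPow hX hG hw m
  obtain ⟨c, hc, hco⟩ := exists_secOrd_refPow hX (Ref1.isRef1_refTensor hF hG) (Ref1.refMul_ne_zero hF hG hv hw) m
  refine Ref1.nonempty_iso_of_secOrd_eq hX (Ref1.isRef1_refPow (Ref1.isRef1_refTensor hF hG) m)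
    (Ref1.isRef1_refTensor (Ref1.isRef1_refPow hF m) (Ref1.isRef1_refPow hG m)) hc
    (Ref1.refMul_ne_zero (Ref1.isRef1_refPow hF m) (Ref1.isRef1_refPow hG m) ha hb) fun x hx => ?_
  rw [hco x hx, Ref1.secOrd_refMul hX hF hG hv hw hx,
    Ref1.secOrd_refMul hX (Ref1.isRef1_refPow hF m) (Ref1.isRef1_refPow hG m) ha hb hx, hao x hx, hbo x hx]
  ring

theorem nonempty_refTensor_dual [IsIntegral X] [IsLocallyNoetherian X] (hX : Pi1.IsNormalScheme X) {F : X.Modules}
    (hF : RefHull.IsRef1 F) : Nonempty (RefPow.refTensor F (RefHull.dual F) ≅ Coh.structureModule X) := by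
  obtain ⟨v, hv⟩ := Ref1.exists_ne_zero_of_isRef1 hF
  obtain ⟨θ, hθ, hord⟩ := Ref1.exists_secOrd_dual F hX hF hv
  have hD := Ref1.isRef1_dual F hF
  refine Ref1.nonempty_iso_of_secOrd_eq hX (Ref1.isRef1_refTensor hF hD) Ref1.isRef1_structureModule
    (Ref1.refMul_ne_zero hF hD hv hθ) (w := HomSh.unitStalk (genericPoint X) 1)
    (fun h => one_ne_zero ((HomSh.unitStalk (genericPoint X)).map_eq_zero_iff.1 h)) fun x hx => ?_
  rw [Ref1.secOrd_refMul hX hF hD hv hθ hx, hord x hx, Ref1.secOrd_unit hx, add_neg_cancel]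

variable (h : Setting1 δ n)

include h in
/-- The classes of reflexive powers are affine in the exponent up to dimension `n - 2`. -/
theorem refPow_sub_mem {ℒ : X.Modules} (hℒ : RefHull.IsRef1 ℒ) : ∀ m : ℕ,
    cl δ n (RefPow.refPow ℒ m) - (cl δ n (Coh.structureModule X) +
      (m : ℤ) • (cl δ n ℒ - cl δ n (Coh.structureModule X))) ∈ Kle δ n (n - 2)
  | 0 => by
    rw [Nat.cast_zero, zero_smul, add_zero, RefPow.refPow_zero, sub_self]
    exact zero_mem _
  | 1 => by
    rw [Nat.cast_one, one_smul, add_sub_cancel, RefPow.refPow_one, sub_self]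
    exact zero_mem _
  | m + 2 => by
    haveI := h.integral
    haveI := h.toSetting.noeth
    have h1 := refTensor_sub_mem h (Ref1.isRef1_refPow hℒ (m + 1)) hℒ
    have := add_mem h1 (refPow_sub_mem hℒ (m + 1))
    convert this using 1
    rw [RefPow.refPow_succ_succ]
    push_cast
    simp only [add_smul, one_smul, two_smul]
    abel

/-! ### Limits -/

theorem tendsto_quadratic (a b c : ℝ) :
    Tendsto (fun m : ℕ => (a + b * m + c * (m : ℝ) ^ 2) / (m : ℝ) ^ 2) atTop (nhds c) := by
  have h1 : Tendsto (fun m : ℕ => (a / (m : ℝ)) / (m : ℝ) + b / (m : ℝ) + c) atTop (nhds (0 + 0 + c)) :=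
    (((tendsto_const_nhds.div_atTop tendsto_natCast_atTop_atTop).div_atTop tendsto_natCast_atTop_atTop).add
      (tendsto_const_nhds.div_atTop tendsto_natCast_atTop_atTop)).add tendsto_const_nhds
  rw [zero_add, zero_add] at h1
  refine h1.congr' ((eventually_gt_atTop 0).mono fun m hm => ?_)
  have : (m : ℝ) ≠ 0 := Nat.cast_ne_zero.2 hm.ne'
  field_simp

/-- A power of `[w]` expanded in `u = 1 - [w]` up to second order. -/
theorem exists_expand {R : Type*} [CommRing R] (w : R) : ∀ m : ℕ, ∃ q : R,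
    w ^ m = 1 - (m : R) * (1 - w) + (m.choose 2 : R) * (1 - w) ^ 2 + (1 - w) ^ 3 * q
  | 0 => ⟨0, by simp [Nat.choose_eq_zero_of_lt]⟩
  | m + 1 => by
    obtain ⟨q, hq⟩ := exists_expand w m
    refine ⟨w * q - (m.choose 2 : R), ?_⟩
    rw [pow_succ, hq, Nat.choose_succ_succ' m 1, Nat.choose_one_right]
    push_cast
    ring

end GrothLib.RefK12
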