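import Groth.Agent.Lib.RefK12.Top
import Groth.Agent.Lib.RefK12.Numeric
import Groth.Agent.Lib.DetMod12.Local
import Mathlib.LinearAlgebra.Matrix.Determinant.Basic

/-!
# Classes and determinants of modules free at the top
-/

set_option autoImplicit false
set_option linter.all false
set_option backward.isDefEq.respectTransparency false
set_option maxHeartbeats 400000

universe u

open CategoryTheory CategoryTheory.Limits AlgebraicGeometry TopologicalSpace

noncomputable section

namespace GrothLib.RefK12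

open GrothLib.QCoh (stalkLin)
open GrothLib.Ref1 (Gen hη sp spR secOrd)
open GrothLib.DetMod12 (comb)
open GrothLib.FacDiv (ordg)

variable {X : Scheme.{u}} [IsIntegral X] [IsLocallyNoetherian X] (δ : X → ℤ) (n : ℤ)

/-- `F` has the class of `O^(r-1) ⊕ ℒ`, where the divisor of `ℒ` is given by determinants of lattice bases. -/
def DetCls (F : X.Modules) (r : ℕ) : Prop :=
  ∃ (e : Module.Basis (Fin r) (X.presheaf.stalk (genericPoint X)) (F.presheaf.stalk (genericPoint X)))
    (ℒ : X.Modules) (v : ℒ.presheaf.stalk (genericPoint X)), RefHull.IsRef1 ℒ ∧ v ≠ 0 ∧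
    cl δ n F - ((r : ℤ) • cl δ n (Coh.structureModule X) + (cl δ n ℒ - cl δ n (Coh.structureModule X))) ∈
      Kle δ n (n - 2) ∧
    ∀ x : X, Order.coheight x = 1 → ∃ ev : Fin r → F.presheaf.stalk x,
      IsUnit (e.det fun i => sp F (hη x) (ev i)) ∧ (∀ w, ∃ c, sp F (hη x) w = comb ev c) ∧
      secOrd ℒ v x = - ordg (e.det fun i => sp F (hη x) (ev i)) x

theorem comb_cons {F : X.Modules} {x : X} {r : ℕ} (t : F.presheaf.stalk x) (ev : Fin r → F.presheaf.stalk x)
    (a : X.presheaf.stalk x) (c : Fin r → X.presheaf.stalk x) :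
    comb (Fin.cons t ev) (Fin.cons a c) = spR (hη x) a • sp F (hη x) t + comb ev c := by
  simp [comb, Fin.sum_univ_succ]

variable {δ n} (h : Setting1 δ n)

include h in
theorem exists_detCls (hη₀ : n - 1 ≤ δ (genericPoint X)) (hco : ∀ x : X, Order.coheight x = 1 → n - 1 ≤ δ x) :
    ∀ (r : ℕ) (F : X.Modules), Good δ n F → rk F = r → DetCls δ n F r
  | 0 => fun F hF h0 => by
    haveI := h.toSetting.noeth
    letI : Field (X.presheaf.stalk (genericPoint X)) := CurvePoints.isField_stalk_genericPoint.toField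
    haveI := finite_stalk hF.coh (genericPoint X)
    haveI : Subsingleton (F.presheaf.stalk (genericPoint X)) := Module.finrank_zero_iff.1 h0
    refine ⟨Module.Basis.empty _, Coh.structureModule X, HomSh.unitStalk (genericPoint X) 1,
      Ref1.isRef1_structureModule, fun e0 => one_ne_zero ((HomSh.unitStalk (genericPoint X)).map_eq_zero_iff.1 e0), ?_,
      fun x hx => ⟨Fin.elim0, ?_, fun w => ⟨Fin.elim0, Subsingleton.elim _ _⟩, ?_⟩⟩
    · simpa using cl_mem_of_rk_zero h hF h0
    · rw [Module.Basis.det_apply, Matrix.det_isEmpty]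
      exact isUnit_one
    · rw [Module.Basis.det_apply, Matrix.det_isEmpty, FacDiv.ordg_one, neg_zero]
      exact Ref1.secOrd_unit hx
  | r + 1 => fun F hF hr => by
    classical
    haveI := h.toSetting.noeth
    letI : Field (X.presheaf.stalk (genericPoint X)) := CurvePoints.isField_stalk_genericPoint.toField
    let η₀ := genericPoint X
    let K := X.presheaf.stalk η₀
    obtain ⟨K', ℒ, hK, hℒ, f, g, S⟩ := exists_step h hF (by omega)
    haveI := hℒ.1.1
    haveI := finite_stalk hF.coh η₀
    have hrk := S.rk_eq hη₀ hF.coh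
    obtain ⟨u, hu⟩ := Ref1.exists_gen_of_genInvertible hℒ.2.2
    have hℒ1 : rk ℒ = 1 :=
      (LinearEquiv.ofBijective (LinearMap.toSpanSingleton K _ u) hu).finrank_eq.symm.trans (Module.finrank_self _)
    obtain ⟨eK, ℒK, vK, hℒK, hvK, hcl, hloc⟩ := exists_detCls hη₀ hco r K' hK (by omega)
    obtain ⟨w, hw⟩ := S.surj η₀ hη₀ u
    let fam : Fin (r + 1) → F.presheaf.stalk η₀ := Fin.cons w fun i => stalkLin f η₀ (eK i)
    have hspan : ⊤ ≤ Submodule.span K (Set.range fam) := fun z _ => by
      obtain ⟨a, ha⟩ := hu.2 (stalkLin g η₀ z)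
      obtain ⟨q, hq⟩ := S.exact η₀ hη₀ (z - a • w) (by rw [map_sub, map_smul, hw]; exact sub_eq_zero.2 ha.symm)
      rw [show z = a • fam 0 + stalkLin f η₀ q by rw [hq]; exact (add_sub_cancel _ _).symm]
      refine Submodule.add_mem _ (Submodule.smul_mem _ _ (Submodule.subset_span ⟨0, rfl⟩)) ?_
      rw [← eK.sum_repr q, map_sum]
      exact Submodule.sum_mem _ fun i _ => by
        rw [map_smul]; exact Submodule.smul_mem _ _ (Submodule.subset_span ⟨i.succ, rfl⟩)
    let e := basisOfTopLeSpanOfCardEqFinrank fam hspan (by rw [Fintype.card_fin]; exact hr.symm)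
    have he : ∀ i, e i = fam i := fun i => by simp [e]
    have he0 : e 0 = w := he 0
    have hes : ∀ i : Fin r, e i.succ = stalkLin f η₀ (eK i) := fun i => by rw [he]; rfl
    have hrepr : ∀ q, e.repr (stalkLin f η₀ q) 0 = 0 ∧ ∀ i : Fin r, e.repr (stalkLin f η₀ q) i.succ = eK.repr q i := by
      intro q
      have h1 : stalkLin f η₀ q = ∑ j : Fin (r + 1), (Fin.cons 0 (eK.repr q) : Fin (r + 1) → K) j • e j := by
        rw [Fin.sum_univ_succ]
        simp only [Fin.cons_zero, Fin.cons_succ, zero_smul, zero_add, hes]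
        conv_lhs => rw [← eK.sum_repr q]
        simp only [map_sum, map_smul]
      have h2 : ∀ j, e.repr (stalkLin f η₀ q) j = (Fin.cons 0 (eK.repr q) : Fin (r + 1) → K) j := fun j => by
        rw [h1, e.repr_sum_self]
      exact ⟨h2 0, fun i => h2 i.succ⟩
    refine ⟨e, RefPow.refTensor ℒK ℒ, Ref1.refMul ℒK ℒ vK u, Ref1.isRef1_refTensor hℒK hℒ,
      Ref1.refMul_ne_zero hℒK hℒ hvK hu.ne_zero, ?_, fun x hx => ?_⟩
    · have m1 := S.cl_sub_mem h.toSetting.le hK.coh hF.coh hℒ.1
      have m2 := refTensor_sub_mem h hℒK hℒ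
      convert sub_mem (add_mem m1 hcl) m2 using 1 <;> first | rfl | (push_cast; simp only [add_smul, one_smul]; abel)
    · have hxt := hco x hx
      obtain ⟨evK, hdK, hexpK, hordK⟩ := hloc x hx
      obtain ⟨t₁, ht₁⟩ := exists_gen_top h hℒ hxt
      obtain ⟨t, ht⟩ := S.surj x hxt t₁
      obtain ⟨c, hc⟩ := hu.2 (sp ℒ (hη x) t₁)
      have hspf : ∀ {A B : X.Modules} (φ : A ⟶ B) q, stalkLin φ η₀ (sp A (hη x) q) = sp B (hη x) (stalkLin φ x q) :=
        fun φ q => by rw [← Ref1.stalkMapₗ_eq_stalkLin, ← Ref1.stalkMapₗ_eq_stalkLin]; exact Ref1.stalkMapₗ_sp _ φ _ q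
      have hc0 : c ≠ 0 := fun e0 => by
        refine ht₁.ne_zero (Ref1.injective_sp_of_isRef1 h.normal hℒ x ?_)
        rw [map_zero, ← hc, e0]
        exact zero_smul _ _
      obtain ⟨q₀, hq₀⟩ := S.exact η₀ hη₀ (sp F (hη x) t - c • w)
        (by rw [map_sub, map_smul, hw, hspf, ht]; exact sub_eq_zero.2 hc.symm)
      have htop : e.repr (sp F (hη x) t) 0 = c := by
        rw [show sp F (hη x) t = c • e 0 + stalkLin f η₀ q₀ by rw [hq₀, he0, add_sub_cancel],
          map_add, map_smul, Finsupp.add_apply, Finsupp.smul_apply, e.repr_self, Finsupp.single_eq_same,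
          (hrepr q₀).1, add_zero, smul_eq_mul, mul_one]
      let ev : Fin (r + 1) → F.presheaf.stalk x := Fin.cons t fun i => stalkLin f x (evK i)
      have hev : ∀ i : Fin r, sp F (hη x) (ev i.succ) = stalkLin f η₀ (sp K' (hη x) (evK i)) := fun i =>
        (hspf f (evK i)).symm
      have hdet : (e.det fun i => sp F (hη x) (ev i)) = c * eK.det fun i => sp K' (hη x) (evK i) := by
        rw [Module.Basis.det_apply, Module.Basis.det_apply, Matrix.det_succ_row_zero, Fin.sum_univ_succ,
          Finset.sum_eq_zero (fun j _ => ?_), add_zero]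
        · rw [Fin.val_zero, pow_zero, one_mul, Module.Basis.toMatrix_apply]
          refine congrArg₂ (· * ·) htop (congrArg Matrix.det ?_)
          ext i j
          simp only [Matrix.submatrix_apply, Module.Basis.toMatrix_apply, Fin.succAbove_zero]
          rw [hev]
          exact (hrepr _).2 i
        · rw [Module.Basis.toMatrix_apply, hev, (hrepr _).1, mul_zero, zero_mul]
      refine ⟨ev, ?_, fun q => ?_, ?_⟩
      · rw [hdet]
        exact (isUnit_iff_ne_zero.2 hc0).mul hdK
      · obtain ⟨a, ha⟩ := ht₁.2 (stalkLin g x q)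
        obtain ⟨q', hq'⟩ := S.exact x hxt (q - a • t) (by rw [map_sub, map_smul, ht]; exact sub_eq_zero.2 ha.symm)
        obtain ⟨c', hc'⟩ := hexpK q'
        refine ⟨Fin.cons a c', ?_⟩
        rw [comb_cons, show q = a • t + stalkLin f x q' by rw [hq']; exact (add_sub_cancel _ _).symm, map_add,
          Ref1.sp_smul, ← hspf, hc']
        simp only [comb, map_sum, map_smul, hspf]
      · rw [Ref1.secOrd_refMul h.normal hℒK hℒ hvK hu.ne_zero hx, hordK, hdet, FacDiv.ordg_mul hc0 hdK.ne_zero]
        have h1 : secOrd ℒ (c • u) x = 0 := by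
          have := Ref1.secOrd_gen hx ht₁ (φ := 1) one_ne_zero
          rw [one_smul, ← hc] at this
          exact this.trans (FacDiv.ordg_one x)
        rw [Ref1.secOrd_smul hx ht₁ hc0 hu.ne_zero] at h1
        simp only [ordg] at *
        omega

end GrothLib.RefK12
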