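import Groth.Agent.Lib.FrobDer12.Stalk
import Groth.Agent.Lib.ModDesc.Approx
import Groth.Agent.Lib.Ref1.Class
import Groth.Agent.Lib.Ref1.Powers
import Groth.Agent.Lib.FacDiv.Invertible
import Groth.Prelude.Def_RefFun

/-!
# Divisors of reflexive Frobenius pull-backs
-/

set_option autoImplicit false
set_option linter.all false
set_option backward.isDefEq.respectTransparency false
set_option maxHeartbeats 400000

universe u

open CategoryTheory CategoryTheory.Limits AlgebraicGeometry TopologicalSpace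

noncomputable section

namespace GrothLib.RefK12

open GrothLib.Ref1 (Gen hη sp spR secOrd)
open GrothLib.FrobDer12 (fM ηSt)

variable {X : Scheme.{u}} (p : ℕ) [Fact p.Prime] [FrobSch.IsCharP X p]

theorem gen_ηSt {E : X.Modules} {x : X} {t : E.presheaf.stalk x} (ht : Gen E x t) :
    Gen (fM p E) x (ηSt p E x t) := by
  let e := LinearEquiv.ofBijective (LinearMap.toSpanSingleton (X.presheaf.stalk x) _ t) ht
  let b : Module.Basis (Fin 1) (X.presheaf.stalk x) (E.presheaf.stalk x) :=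
    (Module.Basis.singleton (Fin 1) (X.presheaf.stalk x)).map e
  obtain ⟨B, hB⟩ := FrobDer12.exists_basis p E b
  have h0 : B 0 = ηSt p E x t := by
    rw [hB]
    congr 1
    simp [b, e]
  rw [← h0]
  constructor
  · intro a c hac
    have := congrArg (fun v => B.repr v 0) hac
    simpa using this
  · intro v
    exact ⟨B.repr v 0, (Fin.sum_univ_one (fun i => B.repr v i • B i)).symm.trans (B.sum_repr v)⟩

theorem sp_ηSt (E : X.Modules) {x y : X} (h : y ⤳ x) (v : E.presheaf.stalk x) :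
    sp (fM p E) h (ηSt p E x v) = ηSt p E y (sp E h v) := by
  obtain ⟨U, hU, m, rfl⟩ := TopCat.Presheaf.exists_germ_eq E.presheaf v
  rw [FrobDer12.ηSt_germ]
  erw [Ref1.sp_germ, Ref1.sp_germ]
  rw [FrobDer12.ηSt_germ]

theorem ord_pow [IsIntegral X] [IsLocallyNoetherian X] {x : X} {f : X.functionField} (hf : f ≠ 0) (n : ℕ) :
    Scheme.ord (f ^ n) x = n * Scheme.ord f x := by
  induction n with
  | zero =>
    rw [pow_zero, Nat.cast_zero, zero_mul]
    have := Ref1.ord_spR_of_isUnit (x := x) (u := 1) isUnit_one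
    rwa [map_one] at this
  | succ n ih =>
    rw [pow_succ, Scheme.ord_mul (pow_ne_zero n hf) hf, ih]
    push_cast
    ring

variable [IsIntegral X] [IsLocallyNoetherian X]

/-- The reflexive Frobenius pullback multiplies divisors by `p`. -/
theorem exists_secOrd_frob (hX : Pi1.IsNormalScheme X) {E : X.Modules} (hE : RefHull.IsRef1 E)
    {v : E.presheaf.stalk (genericPoint X)} (hv : v ≠ 0) :
    RefHull.IsRef1 (RefHull.ddual (fM p E)) ∧
      ∃ u : (RefHull.ddual (fM p E)).presheaf.stalk (genericPoint X), u ≠ 0 ∧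
        ∀ x : X, Order.coheight x = 1 → secOrd (RefHull.ddual (fM p E)) u x = p * secOrd E v x := by
  have hM : Coh.IsCoh (fM p E) := ModDesc.isCoh_pullback (FrobSch.frob X p) E hE.1
  have hR := HomSh.hasRel_of_isCoh hM
  obtain ⟨e, he⟩ := Ref1.exists_gen_of_genInvertible hE.2.2
  have hv' := gen_ηSt p (Ref1.gen_of_ne_zero he hv)
  have hF := Ref1.isRef1_ddual hR hv'
  refine ⟨hF, RefHull.stalkMapₗ (RefHull.bidualMap (fM p E)) (genericPoint X) (ηSt p E (genericPoint X) v),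
    (Ref1.gen_bidual hR hv').ne_zero, fun x hx => ?_⟩
  haveI := hE.1.1
  haveI := hF.1.1
  obtain ⟨t, ht⟩ := Ref1.exists_gen_of_isRef1 hX hE hx
  obtain ⟨a, ha, rfl⟩ := Ref1.exists_coeff ht hv
  rw [FrobDer12.ηSt_smul, ← sp_ηSt, map_smul, Ref1.stalkMapₗ_sp, Ref1.secOrd_gen hx ht ha,
    Ref1.secOrd_gen hx (Ref1.gen_bidual hR (gen_ηSt p ht)) (pow_ne_zero p ha)]
  exact ord_pow (f := (a : X.functionField)) ha p

/-- Iterated reflexive Frobenius pullbacks are reflexive powers. -/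
theorem nonempty_frob_iso_refPow (hX : Pi1.IsNormalScheme X) {ℒ : X.Modules} (hℒ : RefHull.IsRef1 ℒ)
    {G : ℕ → X.Modules} (hG0 : G 0 = ℒ)
    (hG : ∀ m, Nonempty (G (m + 1) ≅ RefHull.ddual (fM p (G m))))
    (hpow : ∀ {v : ℒ.presheaf.stalk (genericPoint X)}, v ≠ 0 → ∀ m : ℕ,
      ∃ u : (RefPow.refPow ℒ m).presheaf.stalk (genericPoint X), u ≠ 0 ∧
        ∀ x : X, Order.coheight x = 1 → secOrd (RefPow.refPow ℒ m) u x = m * secOrd ℒ v x) :
    ∀ m, Nonempty (G m ≅ RefPow.refPow ℒ (p ^ m))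
  | 0 => ⟨eqToIso (by rw [hG0, pow_zero, RefPow.refPow_one])⟩
  | m + 1 => by
    obtain ⟨i⟩ := nonempty_frob_iso_refPow hX hℒ hG0 hG hpow m
    obtain ⟨j⟩ := hG m
    obtain ⟨v, hv⟩ := Ref1.exists_ne_zero_of_isRef1 hℒ
    obtain ⟨u, hu, huo⟩ := hpow hv (p ^ m)
    obtain ⟨c, hc, hco⟩ := hpow hv (p ^ (m + 1))
    have hP := Ref1.isRef1_refPow hℒ (p ^ m)
    obtain ⟨hF, w, hw, hwo⟩ := exists_secOrd_frob p hX hP hu
    refine ⟨j ≪≫ ?_⟩
    let k : fM p (G m) ≅ fM p (RefPow.refPow ℒ (p ^ m)) :=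
      (Scheme.Modules.pullback (FrobSch.frob X p)).mapIso i
    refine RefFun.ddualIso k ≪≫ (Ref1.nonempty_iso_of_secOrd_eq hX hF (Ref1.isRef1_refPow hℒ (p ^ (m + 1))) hw hc
      fun x hx => ?_).some
    rw [hwo x hx, huo x hx, hco x hx, pow_succ]
    push_cast
    ring

end GrothLib.RefK12
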