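import Groth.Agent.Lib.RefK12.Top
import Groth.Agent.Lib.RefK12.Frob
import Groth.Agent.Lib.RefK12.Numeric

/-!
# Reflexive Frobenius pullbacks are affine in `p ^ m` in `K₀` up to dimension `n - 2`
-/

set_option autoImplicit false
set_option linter.all false
set_option backward.isDefEq.respectTransparency false
set_option maxHeartbeats 400000

universe u

open CategoryTheory CategoryTheory.Limits AlgebraicGeometry TopologicalSpace

noncomputable section

namespace GrothLib.RefK12

open GrothLib.QCoh (stalkLin)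
open GrothLib.FrobDer12 (fM ηSt)

variable {X : Scheme.{u}} (p : ℕ) [Fact p.Prime] [FrobSch.IsCharP X p]

/-- The Frobenius pullback of a morphism. -/
abbrev fMap {A B : X.Modules} (φ : A ⟶ B) : fM p A ⟶ fM p B :=
  (Scheme.Modules.pullback (FrobSch.frob X p)).map φ

/-- The reflexive Frobenius pullback. -/
abbrev refFrob (F : X.Modules) : X.Modules := RefHull.ddual (fM p F)

theorem fMap_ηSt {A B : X.Modules} (φ : A ⟶ B) (x : X) (v : A.presheaf.stalk x) :
    stalkLin (fMap p φ) x (ηSt p A x v) = ηSt p B x (stalkLin φ x v) := by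
  obtain ⟨U, hx, s, rfl⟩ := TopCat.Presheaf.exists_germ_eq A.presheaf v
  rw [FrobDer12.ηSt_germ, QCoh.stalkLin_germ]
  erw [QCoh.stalkLin_germ]
  rw [FrobDer12.ηSt_germ]
  congr 1
  exact (ConcreteCategory.congr_hom
    (congrArg (fun f => Scheme.Modules.Hom.app f U)
      ((Scheme.Modules.pullbackPushforwardAdjunction (FrobSch.frob X p)).unit.naturality φ)) s).symm

/-- The semilinear extension of a map of free stalks. -/
theorem exists_lift_linear {A B : X.Modules} (x : X) [Module.Free (X.presheaf.stalk x) (A.presheaf.stalk x)]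
    [Module.Finite (X.presheaf.stalk x) (A.presheaf.stalk x)]
    (L : A.presheaf.stalk x →ₗ[X.presheaf.stalk x] B.presheaf.stalk x) :
    ∃ LF : (fM p A).presheaf.stalk x →ₗ[X.presheaf.stalk x] (fM p B).presheaf.stalk x,
      ∀ v, LF (ηSt p A x v) = ηSt p B x (L v) := by
  let b := Module.Free.chooseBasis (X.presheaf.stalk x) (A.presheaf.stalk x)
  obtain ⟨Bb, hBb⟩ := FrobDer12.exists_basis p A b
  refine ⟨Bb.constr (X.presheaf.stalk x) fun i => ηSt p B x (L (b i)), fun v => ?_⟩
  conv_lhs => rw [← b.sum_repr v]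
  conv_rhs => rw [← b.sum_repr v]
  rw [FrobDer12.ηSt_sum, map_sum, map_sum, FrobDer12.ηSt_sum]
  refine Finset.sum_congr rfl fun i _ => ?_
  rw [FrobDer12.ηSt_smul, map_smul, map_smul, FrobDer12.ηSt_smul, ← hBb, Module.Basis.constr_basis]

theorem linear_ext_ηSt {A : X.Modules} (x : X) [Module.Free (X.presheaf.stalk x) (A.presheaf.stalk x)]
    {M : Type u} [AddCommGroup M] [Module (X.presheaf.stalk x) M]
    {f g : (fM p A).presheaf.stalk x →ₗ[X.presheaf.stalk x] M} (h : ∀ v, f (ηSt p A x v) = g (ηSt p A x v)) :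
    f = g := by
  let b := Module.Free.chooseBasis (X.presheaf.stalk x) (A.presheaf.stalk x)
  obtain ⟨Bb, hBb⟩ := FrobDer12.exists_basis p A b
  exact Bb.ext fun i => by rw [hBb]; exact h (b i)

variable {δ : X → ℤ} {n : ℤ}

theorem good_fM [IsLocallyNoetherian X] {F : X.Modules} (hF : Good δ n F) : Good δ n (fM p F) := by
  refine ⟨ModDesc.isCoh_pullback (FrobSch.frob X p) F hF.coh, fun x hx => ?_⟩
  haveI := hF.free x hx
  obtain ⟨Bb, -⟩ := FrobDer12.exists_basis p F (Module.Free.chooseBasis (X.presheaf.stalk x) (F.presheaf.stalk x))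
  exact Module.Free.of_basis Bb

/-- Frobenius pullbacks keep exactness at the top. -/
theorem TopExact.fMap [IsLocallyNoetherian X] {A B C : X.Modules} {f : A ⟶ B} {g : B ⟶ C} (S : TopExact δ n f g)
    (hA : Good δ n A) (hB : Good δ n B) (hC : Good δ n C) : TopExact δ n (fMap p f) (fMap p g) := by
  have key : ∀ x : X, n - 1 ≤ δ x → ∃ (rF : (fM p B).presheaf.stalk x →ₗ[X.presheaf.stalk x] (fM p A).presheaf.stalk x)
      (sF : (fM p C).presheaf.stalk x →ₗ[X.presheaf.stalk x] (fM p B).presheaf.stalk x),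
      (∀ a, rF (stalkLin (RefK12.fMap p f) x a) = a) ∧ (∀ c, stalkLin (RefK12.fMap p g) x (sF c) = c) ∧
        ∀ b, stalkLin (RefK12.fMap p f) x (rF b) + sF (stalkLin (RefK12.fMap p g) x b) = b := by
    intro x hx
    haveI := hA.free x hx
    haveI := hB.free x hx
    haveI := hC.free x hx
    haveI := finite_stalk hA.coh x
    haveI := finite_stalk hB.coh x
    haveI := finite_stalk hC.coh x
    obtain ⟨s, hs⟩ := Module.projective_lifting_property (stalkLin g x) LinearMap.id (S.surj x hx)
    have hs' : ∀ c, stalkLin g x (s c) = c := LinearMap.congr_fun hs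
    let π := LinearMap.id - s.comp (stalkLin g x)
    have hπ : ∀ b, π b ∈ LinearMap.range (stalkLin f x) := fun b =>
      S.exact x hx _ (by simp [π, hs'])
    let r := (LinearEquiv.ofInjective _ (S.inj x hx)).symm.toLinearMap.comp (π.codRestrict _ hπ)
    have hfr : ∀ b, stalkLin f x (r b) = b - s (stalkLin g x b) := fun b => by
      show stalkLin f x ((LinearEquiv.ofInjective _ (S.inj x hx)).symm ⟨π b, hπ b⟩) = _
      rw [← LinearEquiv.ofInjective_apply (h := S.inj x hx), LinearEquiv.apply_symm_apply]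
      rfl
    have hrf : ∀ a, r (stalkLin f x a) = a := fun a => by
      refine S.inj x hx ?_
      rw [hfr, S.comp_apply, map_zero, sub_zero]
    obtain ⟨rF, hrF⟩ := exists_lift_linear p x r
    obtain ⟨sF, hsF⟩ := exists_lift_linear p x s
    refine ⟨rF, sF, LinearMap.congr_fun (f := rF.comp (stalkLin (RefK12.fMap p f) x)) (g := LinearMap.id) ?_,
      LinearMap.congr_fun (f := (stalkLin (RefK12.fMap p g) x).comp sF) (g := LinearMap.id) ?_,
      LinearMap.congr_fun (f := (stalkLin (RefK12.fMap p f) x).comp rF + sF.comp (stalkLin (RefK12.fMap p g) x))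
        (g := LinearMap.id) ?_⟩
    · refine linear_ext_ηSt p x fun v => ?_
      simp only [LinearMap.comp_apply, LinearMap.id_apply]
      rw [fMap_ηSt, hrF, hrf]
    · refine linear_ext_ηSt p x fun v => ?_
      simp only [LinearMap.comp_apply, LinearMap.id_apply]
      rw [hsF, fMap_ηSt, hs']
    · refine linear_ext_ηSt p x fun v => ?_
      simp only [LinearMap.add_apply, LinearMap.comp_apply, LinearMap.id_apply]
      rw [hrF, fMap_ηSt, fMap_ηSt, hsF, ← FrobDer12.ηSt_add, hfr, sub_add_cancel]
  refine ⟨?_, fun x hx => ?_, fun x hx c => ?_, fun x hx b hb => ?_⟩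
  · show (Scheme.Modules.pullback (FrobSch.frob X p)).map f ≫ (Scheme.Modules.pullback (FrobSch.frob X p)).map g = 0
    rw [← Functor.map_comp, S.w, Functor.map_zero]
  · obtain ⟨rF, sF, h1, -, -⟩ := key x hx
    exact Function.LeftInverse.injective h1
  · obtain ⟨rF, sF, -, h2, -⟩ := key x hx
    exact ⟨sF c, h2 c⟩
  · obtain ⟨rF, sF, -, -, h3⟩ := key x hx
    refine ⟨rF b, ?_⟩
    have := h3 b
    rwa [hb, map_zero, add_zero] at this

theorem dualMap_zero (A B : X.Modules) : RefFun.dualMap (0 : A ⟶ B) = 0 := by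
  apply Scheme.Modules.hom_ext
  intro U
  ext s
  refine Subtype.ext (funext fun x => LinearMap.ext fun v => ?_)
  show s.1 x (RefHull.stalkMapₗ (0 : A ⟶ B) x.1 v) = _
  rw [Ref1.stalkMapₗ_eq_stalkLin, stalkLin_zero', map_zero]
  rfl

variable (h : Setting1 δ n)

include h in
/-- Reflexive hulls keep exactness at the top. -/
theorem TopExact.ddualMap [IsIntegral X] {A B C : X.Modules} {f : A ⟶ B} {g : B ⟶ C} (S : TopExact δ n f g)
    (hA : Good δ n A) (hB : Good δ n B) (hC : Good δ n C) :
    TopExact δ n (RefFun.ddualMap f) (RefFun.ddualMap g) := by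
  haveI := h.toSetting.noeth
  have nat : ∀ {F G : X.Modules} (φ : F ⟶ G) (x : X) (a : F.presheaf.stalk x),
      stalkLin (RefFun.ddualMap φ) x (stalkLin (RefHull.bidualMap F) x a) =
        stalkLin (RefHull.bidualMap G) x (stalkLin φ x a) := fun φ x a => by
    rw [← QCoh.stalkLin_comp, RefFun.bidualMap_naturality, QCoh.stalkLin_comp]
  refine ⟨?_, fun x hx => ?_, fun x hx c => ?_, fun x hx b hb => ?_⟩
  · rw [← RefFun.ddualMap_comp, S.w]
    show RefFun.dualMap (RefFun.dualMap 0) = 0
    rw [dualMap_zero, dualMap_zero]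
  · rw [injective_iff_map_eq_zero]
    intro u hu
    obtain ⟨a, rfl⟩ := (bijective_bidual_top h hA hx).2 u
    rw [nat] at hu
    have h1 := (bijective_bidual_top h hB hx).1 (hu.trans (map_zero _).symm)
    rw [S.inj x hx (h1.trans (map_zero _).symm), map_zero]
  · obtain ⟨c, rfl⟩ := (bijective_bidual_top h hC hx).2 c
    obtain ⟨b, rfl⟩ := S.surj x hx c
    exact ⟨_, nat g x b⟩
  · obtain ⟨b, rfl⟩ := (bijective_bidual_top h hB hx).2 b
    rw [nat] at hb
    obtain ⟨a, rfl⟩ := S.exact x hx b ((bijective_bidual_top h hC hx).1 (hb.trans (map_zero _).symm))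
    exact ⟨_, nat f x a⟩

include h in
theorem good_refFrob [IsIntegral X] {F : X.Modules} (hF : Good δ n F) : Good δ n (refFrob p F) :=
  haveI := h.toSetting.noeth
  good_ddual h (good_fM p hF)

include h in
theorem good_iterate [IsIntegral X] {F : X.Modules} (hF : Good δ n F) : ∀ m : ℕ, Good δ n ((refFrob p)^[m] F)
  | 0 => hF
  | m + 1 => by rw [Function.iterate_succ_apply']; exact good_refFrob p h (good_iterate hF m)

include h in
theorem topSeq_iterate [IsIntegral X] {A B C : X.Modules} (S : TopSeq δ n A B C)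
    (hA : Good δ n A) (hB : Good δ n B) (hC : Good δ n C) :
    ∀ m : ℕ, TopSeq δ n ((refFrob p)^[m] A) ((refFrob p)^[m] B) ((refFrob p)^[m] C)
  | 0 => S
  | m + 1 => by
    haveI := h.toSetting.noeth
    obtain ⟨f, g, hfg⟩ := topSeq_iterate S hA hB hC m
    rw [Function.iterate_succ_apply', Function.iterate_succ_apply', Function.iterate_succ_apply']
    have a := good_iterate p h hA m
    have b := good_iterate p h hB m
    have c := good_iterate p h hC m
    exact ⟨_, _, (hfg.fMap p a b c).ddualMap h (good_fM p a) (good_fM p b) (good_fM p c)⟩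

theorem rk_refFrob [IsIntegral X] [IsLocallyNoetherian X] {F : X.Modules} :
    rk (fM p F) = rk F := by
  letI : Field (X.presheaf.stalk (genericPoint X)) := CurvePoints.isField_stalk_genericPoint.toField
  let b := Module.Free.chooseBasis (X.presheaf.stalk (genericPoint X)) (F.presheaf.stalk (genericPoint X))
  obtain ⟨Bb, -⟩ := FrobDer12.exists_basis p F b
  exact (Module.finrank_eq_nat_card_basis Bb).trans (Module.finrank_eq_nat_card_basis b).symm

include h in
/-- The classes of the iterated reflexive Frobenius pullbacks are affine in `p ^ m` up to dimension `n - 2`. -/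
theorem exists_affine [IsIntegral X] (hη₀ : n - 1 ≤ δ (genericPoint X)) :
    ∀ (r : ℕ) (F : X.Modules), Good δ n F → rk F = r → ∃ a b : K δ n, ∀ m : ℕ,
      cl δ n ((refFrob p)^[m] F) - (b + ((p ^ m : ℕ) : ℤ) • a) ∈ Kle δ n (n - 2)
  | 0 => fun F hF h0 => by
    haveI := h.toSetting.noeth
    refine ⟨0, 0, fun m => ?_⟩
    rw [smul_zero, add_zero, sub_zero]
    refine cl_mem_of_rk_zero h (good_iterate p h hF m) ?_
    induction m with
    | zero => exact h0
    | succ m ih =>
      rw [Function.iterate_succ_apply']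
      letI : Field (X.presheaf.stalk (genericPoint X)) := CurvePoints.isField_stalk_genericPoint.toField
      refine ((LinearEquiv.ofBijective _
        (bijective_bidual_top h (good_fM p (good_iterate p h hF m)) hη₀)).finrank_eq.symm.trans ?_)
      exact (rk_refFrob p).trans ih
  | r + 1 => fun F hF hr => by
    haveI := h.toSetting.noeth
    obtain ⟨K', ℒ, hK, hℒ, S⟩ := exists_step h hF (by omega)
    have hℒg := good_ref1 h hℒ
    obtain ⟨f, g, hfg⟩ := S
    have hrk := hfg.rk_eq hη₀ hF.coh
    have hℒ1 : rk ℒ = 1 := by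
      letI : Field (X.presheaf.stalk (genericPoint X)) := CurvePoints.isField_stalk_genericPoint.toField
      obtain ⟨e, he⟩ := Ref1.exists_gen_of_genInvertible hℒ.2.2
      exact (LinearEquiv.ofBijective (LinearMap.toSpanSingleton (X.presheaf.stalk (genericPoint X)) _ e) he).finrank_eq.symm.trans
        (Module.finrank_self _)
    obtain ⟨a, b, hab⟩ := exists_affine hη₀ r K' hK (by omega)
    let O := Coh.structureModule X
    refine ⟨a + (cl δ n ℒ - cl δ n O), b + cl δ n O, fun m => ?_⟩
    obtain ⟨f', g', S'⟩ := topSeq_iterate p h ⟨f, g, hfg⟩ hK hF hℒg m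
    have m1 := S'.cl_sub_mem h.toSetting.le (good_iterate p h hK m).coh (good_iterate p h hF m).coh
      (good_iterate p h hℒg m).coh
    obtain ⟨i⟩ := nonempty_frob_iso_refPow p h.normal hℒ (G := fun j => (refFrob p)^[j] ℒ) rfl
      (fun j => ⟨eqToIso (Function.iterate_succ_apply' _ _ _)⟩) (fun hv j => exists_secOrd_refPow h.normal hℒ hv j) m
    have m2 := refPow_sub_mem h hℒ (p ^ m)
    rw [← cl_iso h.toSetting.le i (good_iterate p h hℒg m).coh] at m2
    convert add_mem (add_mem m1 (hab m)) m2 using 1 <;> first | rfl | (rw [smul_add]; abel)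

end GrothLib.RefK12
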