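import Groth.Agent.Lib.RefK12.Rank1
import Groth.Agent.Lib.Seesaw26.Criterion

/-!
# The operators `c₁` on classes of rank one reflexive modules
-/

set_option autoImplicit false
set_option linter.all false
set_option backward.isDefEq.respectTransparency false
set_option maxHeartbeats 400000

universe u

open CategoryTheory CategoryTheory.Limits AlgebraicGeometry TopologicalSpace

noncomputable section

namespace GrothLib.RefK12

open GrothLib.Cube (Pic clsMod)

variable {X : Scheme.{u}} {δ : X → ℤ} {n : ℤ}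

theorem isInvertible_inverses {r : ℕ} {L M : Fin r → X.Modules} (hL : ∀ i, PicF.IsInvertible (L i))
    (hLM : ∀ i, Nonempty (CohB1.tensorMod (L i) (M i) ≅ Coh.structureModule X)) (i : Fin r) :
    PicF.IsInvertible (M i) :=
  let ⟨w⟩ := hLM i
  Seesaw26.isInvertible_of_tensor_iso w (hL i)

/-- `1 - [ab] = (1 - [a]) + (1 - [b]) - (1 - [a])(1 - [b])`. -/
theorem one_sub_e_mul (a b : Pic X) :
    (1 : MonoidAlgebra ℤ (Pic X)) - e (a * b) = (1 - e a) + (1 - e b) - (1 - e a) * (1 - e b) := by
  rw [show e (a * b) = e a * e b from map_mul (MonoidAlgebra.of ℤ (Pic X)) a b]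
  ring

theorem mk_sum_eq_zero {m : ℤ} {ι : Type*} [Fintype ι] (a : ι → ℤ) (x y : ι → K δ n)
    (h : (∑ i, a i • (x i - y i)) ∈ Kle δ n m) :
    (∑ i, a i • ((QuotientAddGroup.mk (x i) : Cyc.K0CohQuot δ n m) - QuotientAddGroup.mk (y i))) = 0 := by
  rw [← (QuotientAddGroup.eq_zero_iff _).2 h]
  refine Eq.trans ?_ (map_sum (QuotientAddGroup.mk' (Kle δ n m)) _ _).symm
  exact Finset.sum_congr rfl fun i _ => rfl

/-- The products of `c₁` vanish on classes of smaller dimension. -/
theorem act_prod_eq_zero (h : Setting δ n) (h0 : ∀ x : X, 0 ≤ δ x) {r : ℕ} (z : Fin r → Pic X) {m : ℤ}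
    (hm : m < r) {c : K δ n} (hc : c ∈ Kle δ n m) : act h (∏ i, (1 - e (z i))) c = 0 := by
  have := act_prod_mem h Finset.univ z hc
  rwa [Finset.card_univ, Fintype.card_fin, Kle_eq_bot (fun x => by have := h0 x; omega), AddSubgroup.mem_bot] at this

end GrothLib.RefK12
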