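import Groth.Agent.Lib.RefK12.Setup
import Groth.Agent.Lib.RefK12.GenMap
import Groth.Agent.Lib.FacDiv.Invertible
import Groth.Agent.Lib.Ref1.Class
import Mathlib.RingTheory.Flat.Basic

/-!
# Classes of rank one reflexive modules modulo small dimension
-/

set_option autoImplicit false
set_option linter.all false
set_option backward.isDefEq.respectTransparency false
set_option maxHeartbeats 400000

universe u

open CategoryTheory CategoryTheory.Limits AlgebraicGeometry TopologicalSpace

open scoped TensorProduct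

noncomputable section

namespace GrothLib.RefK12

open GrothLib.Euler (tF)
open GrothLib.Cube (Pic clsMod HasCls hasCls_clsMod)
open GrothLib.Snapper (tw)
open GrothLib.QCoh (stalkLin)
open GrothLib.Ref1 (Gen hη sp)

variable {X : Scheme.{u}}

theorem injective_stalkLin_comp {A B C : X.Modules} {f : A ⟶ B} {g : B ⟶ C} {x : X}
    (hf : Function.Injective (stalkLin f x)) (hg : Function.Injective (stalkLin g x)) :
    Function.Injective (stalkLin (f ≫ g) x) := by
  have h : ⇑(stalkLin (f ≫ g) x) = stalkLin g x ∘ stalkLin f x := by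
    funext v
    exact QCoh.stalkLin_comp f g x v
  rw [h]
  exact hg.comp hf

/-- Tensoring with a module free at a point keeps injectivity there. -/
theorem injective_tensor_map_right (N : X.Modules) {F F' : X.Modules} (φ : F ⟶ F') {x : X}
    {t : N.presheaf.stalk x} (ht : Gen N x t) (h : Function.Injective (stalkLin φ x)) :
    Function.Injective (stalkLin ((tF N).map φ) x) := by
  let eN := LinearEquiv.ofBijective (LinearMap.toSpanSingleton (X.presheaf.stalk x) _ t) ht
  haveI : Module.Free (X.presheaf.stalk x) (N.presheaf.stalk x) := Module.Free.of_equiv eN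
  have h0 : Function.Injective (stalkLin (((DCoh.tensorBi (X := X)).obj N).map φ) x) := by
    let L := LinearMap.lTensor (N.presheaf.stalk x) (stalkLin φ x)
    have key : ∀ v, stalkLin (((DCoh.tensorBi (X := X)).obj N).map φ) x v =
        (Ref1.tensorStalk N F' x).symm (L (Ref1.tensorStalk N F x v)) := by
      intro v
      obtain ⟨w, rfl⟩ := (Ref1.tensorStalk N F x).symm.surjective v
      induction w using TensorProduct.induction_on with
      | zero => simp
      | tmul a b =>
        have h1 := Goodman.stalkLin_tensor_tmul N φ x a b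
        refine (show _ = _ from h1).trans ?_
        show _ = (Ref1.tensorStalk N F' x).symm (L (Ref1.tensorStalk N F x ((Ref1.tensorStalk N F x).symm (a ⊗ₜ b))))
        rw [LinearEquiv.apply_symm_apply]
        rfl
      | add p q hp hq => simp only [map_add, hp, hq]
    rw [funext key]
    exact (Ref1.tensorStalk N F' x).symm.injective.comp
      ((Module.Flat.lTensor_preserves_injective_linearMap _ h).comp (Ref1.tensorStalk N F x).injective)
  let β := (OX.tensorBraiding (X := X)).app N
  have e : (tF N).map φ = β.hom.app F ≫ ((DCoh.tensorBi (X := X)).obj N).map φ ≫ β.inv.app F' := by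
    rw [β.inv.naturality φ, ← Category.assoc, ← NatTrans.comp_app, β.hom_inv_id, NatTrans.id_app, Category.id_comp]
  rw [e]
  exact injective_stalkLin_comp (bijective_stalkLin_iso (β.app F) x).1
    (injective_stalkLin_comp h0 (bijective_stalkLin_iso (β.app F').symm x).1)

theorem support_tensor_left_subset {F N : X.Modules} :
    CohB1.support ((tF N).obj F) ⊆ CohB1.support F := by
  intro x hx
  by_contra h
  haveI := QCoh.stalk_subsingleton_of_notMem h
  exact hx ((Ref1.tensorStalk F N x).toEquiv.subsingleton)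

/-- Tensor products of coherent modules are coherent on a scheme with an ample module. -/
theorem isCoh_tensor_coh [IsNoetherian X] {L : X.Modules} (hL : CohB1.IsAmple L) {A B : X.Modules}
    (hA : Coh.IsCoh A) (hB : Coh.IsCoh B) : Coh.IsCoh ((tF B).obj A) := by
  have hres := ResProp22.hasResolutionProperty_of_isAmple hL
  obtain ⟨V, p, hV, hp⟩ := hres B hB.1 hB.2
  have hVc := Euler.isCoh_of_isFinLocFree hV
  have hK := QCoh.isCoh_kernel p hVc hB
  obtain ⟨V', q, hV', hq⟩ := hres (kernel p) hK.1 hK.2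
  let φ := q ≫ kernel.ι p
  let G := (DCoh.tensorBi (X := X)).obj A
  let e0 : cokernel φ ≅ B := cokernelEpiComp q (kernel.ι p) ≪≫
    ((Abelian.epiIsCokernelOfKernel _ (kernelIsKernel p)).coconePointUniqueUpToIso (colimit.isColimit _)).symm
  exact QCoh.isCoh_of_iso ((PreservesCokernel.iso G φ).symm ≪≫ G.mapIso e0)
    (QCoh.isCoh_cokernel (G.map φ) (Euler.isCoh_tF hA hV') (Euler.isCoh_tF hA hV))

theorem injective_of_generic [IsIntegral X] [IsLocallyNoetherian X] (hX : Pi1.IsNormalScheme X)
    {H G : X.Modules} (hH : PicF.IsInvertible H) (φ : H ⟶ G)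
    (hb : Function.Injective (stalkLin φ (genericPoint X))) (x : X) : Function.Injective (stalkLin φ x) := by
  intro a b hab
  refine Ref1.injective_sp_of_isRef1 hX (FacDiv.isRef1_of_isInvertible hH) x (hb ?_)
  rw [← Ref1.stalkMapₗ_eq_stalkLin φ] at *
  exact (Ref1.stalkMapₗ_sp H φ (hη x) a).trans
    ((congrArg _ hab).trans (Ref1.stalkMapₗ_sp H φ (hη x) b).symm)

variable {δ : X → ℤ} {n : ℤ}

/-- The standing hypotheses for rank one classes. -/
structure Setting1 (δ : X → ℤ) (n : ℤ) : Prop where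
  toSetting : Setting δ n
  integral : IsIntegral X
  normal : Pi1.IsNormalScheme X
  generic : ∀ x : X, n ≤ δ x → ∀ y : X, y ⤳ x → y = x
  codimOne : ∀ x : X, δ x = n - 1 → Order.coheight x = 1
  field : ∃ (k : Type u) (_ : Field k) (_ : Infinite k), Nonempty (k →+* Γ(X, ⊤))

theorem setting1 (k : Type u) [Field k] [IsAlgClosed k] [X.Over (Spec (CommRingCat.of k))] [IsIntegral X]
    (hX : Pi1.IsNormalScheme X) (hp : Proj k (X := X)) (hδ : Cyc.IsSetup X δ) (hη : δ (genericPoint X) = n) :
    Setting1 δ n where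
  toSetting := setting hp hδ hη
  integral := inferInstance
  normal := hX
  generic x hx y hy := by
    by_contra hne
    have h1 := (hδ.2.2 y x hy hne).1
    have h2 := delta_le_generic hδ hη y
    omega
  codimOne _ hx := coheight_eq_one hδ hη hx
  field := ⟨k, inferInstance, inferInstance,
    ⟨((Scheme.ΓSpecIso (CommRingCat.of k)).inv ≫ (X ↘ Spec (CommRingCat.of k)).appTop).hom⟩⟩

variable (h : Setting1 δ n)

include h in
theorem exists_gen_top {ℒ : X.Modules} (hℒ : RefHull.IsRef1 ℒ) {x : X} (hx : n - 1 ≤ δ x) :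
    ∃ t, Gen ℒ x t := by
  haveI := h.integral
  haveI := h.toSetting.noeth
  rcases (h.toSetting.le x).lt_or_eq with hlt | heq
  · exact Ref1.exists_gen_of_isRef1 h.normal hℒ (h.codimOne x (by omega))
  · obtain rfl := h.generic x heq.ge (genericPoint X) ((genericPoint_spec X).specializes (Set.mem_univ x))
    exact Ref1.exists_gen_of_genInvertible hℒ.2.2

include h in
theorem eq_generic {x : X} [IsIntegral X] (hx : n - 1 < δ x) : x = genericPoint X :=
  (h.generic x (by omega) (genericPoint X) ((genericPoint_spec X).specializes (Set.mem_univ x))).symm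

include h in
/-- A comparison with an invertible module. -/
theorem exists_invertible_map [IsIntegral X] {ℒ : X.Modules} (hℒ : RefHull.IsRef1 ℒ) {E : Set X} (hE : E.Finite)
    (hd : ∀ x ∈ E, n - 1 ≤ δ x) :
    ∃ (H : X.Modules) (φ : H ⟶ ℒ), PicF.IsInvertible H ∧
      Function.Bijective (stalkLin φ (genericPoint X)) ∧ (∀ x ∈ E, Function.Bijective (stalkLin φ x)) := by
  haveI := h.toSetting.noeth
  obtain ⟨k, _, _, ⟨ρ⟩⟩ := h.field
  obtain ⟨L, hL⟩ := h.toSetting.ample
  obtain ⟨H, φ, hH, hφ⟩ := exists_map ρ hL hℒ.1 (hE.insert (genericPoint X)) fun x hx => by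
    rcases Set.mem_insert_iff.1 hx with rfl | hx
    · exact Ref1.exists_gen_of_genInvertible hℒ.2.2
    · exact exists_gen_top h hℒ (hd x hx)
  exact ⟨H, φ, hH, hφ _ (Set.mem_insert _ _), fun x hx => hφ x (Set.mem_insert_of_mem _ hx)⟩

include h in
theorem invertible_sub_structure {H : X.Modules} (hH : PicF.IsInvertible H) :
    cl δ n H - cl δ n (Coh.structureModule X) ∈ Kle δ n (n - 1) := by
  haveI := h.toSetting.noeth
  have hO : Coh.IsCoh (Coh.structureModule X) := HomSh.isCoh_structureModule X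
  have := tensor_sub_mem h.toSetting.le h.toSetting.dimFun h.toSetting.ample hO (fun x _ => h.toSetting.le x) hH
  rwa [show cl δ n ((tF H).obj (Coh.structureModule X)) = cl δ n H from
    cl_iso h.toSetting.le (OX.tensorUnitLeftIso H) (isCoh_tensor hO hH)] at this

include h in
/-- A rank one reflexive module has the class of the structure sheaf up to dimension `n - 1`. -/
theorem ref1_sub_structure {ℒ : X.Modules} (hℒ : RefHull.IsRef1 ℒ) :
    cl δ n ℒ - cl δ n (Coh.structureModule X) ∈ Kle δ n (n - 1) := by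
  haveI := h.integral
  haveI := h.toSetting.noeth
  obtain ⟨H, φ, hH, hφ, -⟩ := exists_invertible_map h hℒ Set.finite_empty fun x hx => hx.elim
  have h1 := sub_mem_of_map h.toSetting.le (Euler.isCoh_of_isInvertible hH) hℒ.1 φ (m := n - 1)
    fun x _ hx => by rw [eq_generic h hx]; exact hφ
  have := sub_mem (invertible_sub_structure h hH) h1
  rwa [sub_sub_sub_cancel_left] at this

include h in
/-- Rank one reflexive modules act trivially on classes of dimension at most `n - 1`. -/
theorem tensor_ref1_sub_mem {ℒ : X.Modules} (hℒ : RefHull.IsRef1 ℒ) {Q : X.Modules} (hQ : Cyc.CohLe δ (n - 1) Q) :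
    cl δ n ((tF ℒ).obj Q) - cl δ n Q ∈ Kle δ n (n - 2) := by
  haveI := h.integral
  haveI := h.toSetting.noeth
  obtain ⟨L, hL⟩ := h.toSetting.ample
  have hle : ∀ x ∈ CohB1.support Q, δ x ≤ n - 1 := fun x hx => delta_le_of_cohLe hQ hx
  obtain ⟨H, φ, hH, -, hφ⟩ := exists_invertible_map h hℒ (finite_top h.toSetting.dimFun hQ.1 hle)
    fun x hx => hx.2.ge
  have hHc := Euler.isCoh_of_isInvertible hH
  have h1 := sub_mem_of_map h.toSetting.le (m := n - 2) (isCoh_tensor hQ.1 hH) (isCoh_tensor_coh hL hQ.1 hℒ.1)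
    (((DCoh.tensorBi (X := X)).obj Q).map φ) fun x hx hm => by
      have hxQ : x ∈ CohB1.support Q :=
        hx.elim (fun h => support_tensor_left_subset h) fun h => support_tensor_left_subset h
      exact bijective_tensor_map Q φ (hφ x ⟨hxQ, le_antisymm (hle x hxQ) (by omega)⟩)
  have h2 := tensor_sub_mem h.toSetting.le h.toSetting.dimFun ⟨L, hL⟩ hQ.1 hle hH
  rw [show n - 1 - 1 = n - 2 by ring] at h2
  have := sub_mem h2 h1
  rwa [sub_sub_sub_cancel_left] at this

set_option maxHeartbeats 2000000 in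
include h in
/-- Classes are additive in the divisor up to dimension `n - 2`. -/
theorem refTensor_sub_mem {ℒ₁ ℒ₂ : X.Modules} (h₁ : RefHull.IsRef1 ℒ₁) (h₂ : RefHull.IsRef1 ℒ₂) :
    cl δ n (RefPow.refTensor ℒ₁ ℒ₂) + cl δ n (Coh.structureModule X) - (cl δ n ℒ₁ + cl δ n ℒ₂) ∈
      Kle δ n (n - 2) := by
  haveI := h.integral
  haveI := h.toSetting.noeth
  have hs := h.toSetting
  obtain ⟨L, hL⟩ := hs.ample
  let O := Coh.structureModule X
  have hO : Coh.IsCoh O := HomSh.isCoh_structureModule X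
  obtain ⟨H, φ, hH, hη', -⟩ := exists_invertible_map h h₂ Set.finite_empty fun x hx => hx.elim
  have hHc := Euler.isCoh_of_isInvertible hH
  haveI := hHc.1
  haveI := h₂.1.1
  haveI : Mono φ :=
    CMReg.mono_of_stalk_injective_weakAss φ fun x _ => injective_of_generic h.normal hH φ hη'.1 x
  let A := tF ℒ₁
  let Q := cokernel φ
  have hQc := QCoh.isCoh_cokernel φ hHc h₂.1
  have hQ : Cyc.CohLe δ (n - 1) Q := cohLe_of_support hQc fun x hx => by
    by_contra hlt
    rw [eq_generic h (not_le.1 hlt)] at hx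
    exact QCoh.notMem_support_cokernel_of_surjective φ hη'.2 hx
  have c1 : cl δ n ℒ₂ = cl δ n H + cl δ n Q := by
    have hS : (ShortComplex.mk φ (cokernel.π φ) (cokernel.condition φ)).ShortExact :=
      { exact := ShortComplex.exact_of_g_is_cokernel _ (cokernelIsCokernel φ) }
    exact K0Sub.clSub_add hS (cohLe_of_le hs.le hHc) (cohLe_of_le hs.le h₂.1) (cohLe_of_le hs.le hQc)
  have hA : ∀ M : X.Modules, Coh.IsCoh M → Coh.IsCoh (A.obj M) := fun M hM => isCoh_tensor_coh hL hM h₁.1
  -- the tensored sequence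
  obtain ⟨w, hS⟩ := QCoh.shortExact_kernel_image (A.map φ)
  have hS' := QCoh.shortExact_image_cokernel (A.map φ)
  have hKc := QCoh.isCoh_kernel (A.map φ) (hA _ hHc) (hA _ h₂.1)
  have hCc := QCoh.isCoh_cokernel (A.map φ) (hA _ hHc) (hA _ h₂.1)
  have hIc : Coh.IsCoh (Abelian.image (A.map φ)) := QCoh.isCoh_kernel _ (hA _ h₂.1) hCc
  have e1 : cl δ n (A.obj H) = cl δ n (kernel (A.map φ)) + cl δ n (Abelian.image (A.map φ)) :=
    K0Sub.clSub_add hS (cohLe_of_le hs.le hKc) (cohLe_of_le hs.le (hA _ hHc)) (cohLe_of_le hs.le hIc)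
  have e2 : cl δ n (A.obj ℒ₂) = cl δ n (Abelian.image (A.map φ)) + cl δ n (cokernel (A.map φ)) :=
    K0Sub.clSub_add hS' (cohLe_of_le hs.le hIc) (cohLe_of_le hs.le (hA _ h₂.1)) (cohLe_of_le hs.le hCc)
  have e3 : cl δ n (cokernel (A.map φ)) = cl δ n (A.obj Q) :=
    cl_iso hs.le (PreservesCokernel.iso A φ).symm hCc
  have m1 : cl δ n (kernel (A.map φ)) ∈ Kle δ n (n - 2) := cl_mem_Kle hKc fun x hx => by
    by_contra hlt
    obtain ⟨t, ht⟩ := exists_gen_top h h₁ (x := x) (by omega)
    exact QCoh.notMem_support_kernel_of_injective (A.map φ)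
      (injective_tensor_map_right ℒ₁ φ ht (injective_of_generic h.normal hH φ hη'.1 x)) hx
  have m2 := tensor_ref1_sub_mem h h₁ hQ
  -- the two twists by `H`
  have c2 : cl δ n (A.obj H) = twist hs (clsMod hH) (cl δ n ℒ₁) := by
    rw [twist_cl_hasCls hs (hasCls_clsMod hH) h₁.1]
    exact cl_iso hs.le (GrTilde.tensorModComm H ℒ₁) (hA _ hHc)
  have c3 : cl δ n H = twist hs (clsMod hH) (cl δ n O) := by
    rw [twist_cl_hasCls hs (hasCls_clsMod hH) hO]
    exact (cl_iso hs.le (OX.tensorUnitLeftIso H) (isCoh_tensor hO hH)).symm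
  have m3 : cl δ n ℒ₁ - cl δ n O - twist hs (clsMod hH) (cl δ n ℒ₁ - cl δ n O) ∈ Kle δ n (n - 2) := by
    have := act_one_sub_mem hs (clsMod hH) (ref1_sub_structure h h₁)
    rwa [act_sub_apply, act_one_apply, act_e, show n - 1 - 1 = n - 2 by ring] at this
  -- the reflexive hull
  have hR := Ref1.hasRel_tensorMod (HomSh.hasRel_of_isCoh h₁.1) (HomSh.hasRel_of_isCoh h₂.1)
  have hT : Coh.IsCoh (CohB1.tensorMod ℒ₁ ℒ₂) := isCoh_tensor_coh hL h₁.1 h₂.1
  have m4 : cl δ n (CohB1.tensorMod ℒ₁ ℒ₂) - cl δ n (RefPow.refTensor ℒ₁ ℒ₂) ∈ Kle δ n (n - 2) := by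
    refine sub_mem_of_map hs.le hT (Ref1.isRef1_refTensor h₁ h₂).1 (RefPow.toRefTensor ℒ₁ ℒ₂) fun x _ hm => ?_
    obtain ⟨t, ht⟩ := exists_gen_top h h₁ (x := x) (by omega)
    obtain ⟨t', ht'⟩ := exists_gen_top h h₂ (x := x) (by omega)
    have g0 := ht.tmulStalk ℒ₁ ℒ₂ ht'
    have g1 := Ref1.gen_bidual hR g0
    rw [← Ref1.stalkMapₗ_eq_stalkLin]
    constructor
    · intro a b hab
      obtain ⟨p, rfl⟩ := g0.2 a
      obtain ⟨q, rfl⟩ := g0.2 b
      rw [map_smul, map_smul] at hab
      exact congrArg (fun c => c • _) (g1.1 hab)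
    · intro v
      obtain ⟨p, rfl⟩ := g1.2 v
      exact ⟨p • Ref1.tmulStalk ℒ₁ ℒ₂ x t t', map_smul _ _ _⟩
  have e4 : cl δ n (A.obj ℒ₂) = cl δ n (CohB1.tensorMod ℒ₁ ℒ₂) :=
    cl_iso hs.le (GrTilde.tensorModComm ℒ₂ ℒ₁) (hA _ h₂.1)
  rw [map_sub] at m3
  have := sub_mem (sub_mem (sub_mem m2 m1) m3) m4
  convert this using 1
  rw [c1, c3, ← e3]
  have e4' : cl δ n (CohB1.tensorMod ℒ₁ ℒ₂) =
      cl δ n (Abelian.image (A.map φ)) + cl δ n (cokernel (A.map φ)) := e4.symm.trans e2
  have e1' : cl δ n (Abelian.image (A.map φ)) = twist hs (clsMod hH) (cl δ n ℒ₁) - cl δ n (kernel (A.map φ)) := by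
    rw [← c2, e1, add_sub_cancel_left]
  rw [e4', e1']
  abel

end GrothLib.RefK12
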