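import Groth.Agent.Lib.RefK12.Basic
import Groth.Agent.Lib.HodgeIndex.ProjConv
import Mathlib.Topology.KrullDimension

/-!
# The setting of a normal projective variety with a dimension function
-/

set_option autoImplicit false
set_option linter.all false
set_option backward.isDefEq.respectTransparency false
set_option maxHeartbeats 400000

universe u

open CategoryTheory CategoryTheory.Limits AlgebraicGeometry TopologicalSpace

noncomputable section

namespace GrothLib.RefK12

open GrothLib.Cube (Pic clsMod HasCls)

variable (k : Type u) [Field k] {X : Scheme.{u}} [X.Over (Spec (CommRingCat.of k))]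

/-- The hypothesis that `X` lies in a projective space over `k`. -/
abbrev Proj : Prop :=
  ∃ (N : ℕ) (ι : X ⟶ CohB1.ProjSpace N k), IsClosedImmersion ι ∧ ι ≫ CohB1.ProjSpace.toSpec N k = X ↘ Spec (CommRingCat.of k)

variable {k}

theorem isProper_proj (hp : Proj k (X := X)) : IsProper (X ↘ Spec (CommRingCat.of k)) := by
  obtain ⟨N, ι, hι, h⟩ := hp
  exact HodgeIndex.isProper_of_proj ι h

theorem exists_ample_proj (hp : Proj k (X := X)) : ∃ L : X.Modules, CohB1.IsAmple L := by
  obtain ⟨N, ι, hι, h⟩ := hp
  exact ⟨_, HodgeIndex.isAmple_hyperplane ι⟩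

variable {δ : X → ℤ}

theorem delta_le_generic [IsIntegral X] (hδ : Cyc.IsSetup X δ) {n : ℤ} (hη : δ (genericPoint X) = n) (x : X) :
    δ x ≤ n :=
  hη ▸ CycBasic.delta_le hδ.2.2 ((genericPoint_spec X).specializes (Set.mem_univ x))

theorem setting [IsIntegral X] (hp : Proj k (X := X)) (hδ : Cyc.IsSetup X δ) {n : ℤ}
    (hη : δ (genericPoint X) = n) : Setting δ n := by
  haveI := isProper_proj hp
  exact ⟨Euler.isNoetherian_of_proper (X := X) k, delta_le_generic hδ hη, hδ.2.2, exists_ample_proj hp⟩

/-- Points one below the top have coheight one. -/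
theorem coheight_eq_one [IsIntegral X] (hδ : Cyc.IsSetup X δ) {n : ℤ} (hη : δ (genericPoint X) = n) {x : X}
    (hx : δ x = n - 1) : Order.coheight x = 1 := by
  refine le_antisymm ?_ ?_
  · refine Order.coheight_le_coe_iff.2 fun y hy => ?_
    have hyη : y = genericPoint X := by
      by_contra hne
      have h1 := (hδ.2.2 y x (Scheme.le_iff_specializes.1 hy.le) fun e => hy.ne e.symm).1
      have h2 := (hδ.2.2 (genericPoint X) y ((genericPoint_spec X).specializes (Set.mem_univ y)) (Ne.symm hne)).1
      omega
    have : Order.coheight y = 0 := by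
      rw [hyη, Order.coheight_eq_zero]
      intro z hz
      exact Scheme.le_iff_specializes.2 ((genericPoint_spec X).specializes (Set.mem_univ z))
    rw [this]
    exact zero_lt_one
  · have hlt : x < genericPoint X := by
      refine lt_of_le_not_ge (Scheme.le_iff_specializes.2 ((genericPoint_spec X).specializes (Set.mem_univ x))) fun e => ?_
      have := CycBasic.delta_le hδ.2.2 (Scheme.le_iff_specializes.1 e)
      omega
    exact le_trans le_add_self (Order.coheight_add_one_le hlt)

/-- Points of negative dimension do not exist. -/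
theorem delta_nonneg [IsIntegral X] (hp : Proj k (X := X)) (hδ : Cyc.IsSetup X δ) {n : ℕ}
    (hdim : topologicalKrullDim X = n) (hη : δ (genericPoint X) = n) (x : X) : 0 ≤ δ x := by
  haveI := isProper_proj hp
  haveI := Euler.isNoetherian_of_proper (X := X) k
  by_contra hc
  have hk := CycBasic.ringKrullDim_locQuot hδ.2.2 x (genericPoint X) ((genericPoint_spec X).specializes (Set.mem_univ x))
  have hle : ringKrullDim (Cyc.LocQuot x (genericPoint X) ((genericPoint_spec X).specializes (Set.mem_univ x))) ≤
      ringKrullDim (X.presheaf.stalk x) :=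
    ringKrullDim_quotient_le _
  have hst : ringKrullDim (X.presheaf.stalk x) ≤ topologicalKrullDim X := by
    rw [← PrimeSpectrum.topologicalKrullDim_eq_ringKrullDim]
    exact (X.fromSpecStalk x).isEmbedding.isInducing.topologicalKrullDim_le
  rw [hk, hη] at hle
  have := hle.trans (hst.trans hdim.le)
  have h3 : ((n : ℤ) - δ x).toNat ≤ n := by exact_mod_cast this
  omega

end GrothLib.RefK12
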